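import Groth.Agent.L14.LocHilb.Lift.Obs.Theory
import Groth.Agent.L14.LocHilb.Lift.PushHom
import Groth.Agent.L14.LocHilb.Lift.Smooth
import Groth.Agent.L16.PushEdge

/-! # The obstruction theory with values in the first cohomology of the normal sheaf -/

set_option autoImplicit false
set_option linter.style.haveILetI false
set_option linter.unusedSectionVars false
set_option backward.isDefEq.respectTransparency.types false
set_option backward.isDefEq.respectTransparency false

universe u

open CategoryTheory CategoryTheory.Limits AlgebraicGeometry TopologicalSpace Opposite ArtFun ArtFun.Art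

noncomputable section

namespace Groth.L14.LocHilbLift

open Groth.L16.HomSh
open Groth.L16.CohLinear (tm tF hmap)

section

variable {Z X : Scheme.{u}} (g : Z ⟶ X) (G : Z.Modules)

theorem smulAb_push (r : Coh.Γtop X) :
    Coh.smulAb ((Scheme.Modules.pushforward g).obj G) r =
      (CohTop.push g.base).map (Coh.smulAb G (show Coh.Γtop Z from g.appTop r)) := by
  ext U m
  show (g.app U.unop (Coh.resTop X U r)) • (show Γ(G, g ⁻¹ᵁ U.unop) from m) =
    (show Γ(Z, g ⁻¹ᵁ U.unop) from Coh.resTop Z (op (g ⁻¹ᵁ U.unop)) (g.appTop r)) •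
      (show Γ(G, g ⁻¹ᵁ U.unop) from m)
  congr 1
  exact ConcreteCategory.congr_hom (g.naturality (homOfLE (le_top : U.unop ≤ ⊤)).op) r

theorem pushEdge_smul (p : ℕ) (r : Coh.Γtop X) (y : Coh.HH X ((Scheme.Modules.pushforward g).obj G) p) :
    CohPull.pushEdge g G p (r • y) = (show Coh.Γtop Z from g.appTop r) • CohPull.pushEdge g G p y := by
  rw [Groth.L16.PushEdge.pushEdge_eq, Groth.L16.PushEdge.pushEdge_eq, Groth.L16.CohLinear.smul_apply,
    Groth.L16.CohLinear.smul_apply, smulAb_push]
  exact Groth.L16.PushEdge.edge_natural g.base (Coh.smulAb G (g.appTop r)) p y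

end

variable {k : Type u} [Field k]

theorem nonempty_HH_pushEquiv {Z X : Scheme.{u}} [Z.Over (Spec (CommRingCat.of k))]
    [X.Over (Spec (CommRingCat.of k))] (i : Z ⟶ X) [IsClosedImmersion i]
    (hi : i ≫ (X ↘ Spec (CommRingCat.of k)) = Z ↘ Spec (CommRingCat.of k)) (G : Z.Modules) (p : ℕ) :
    Nonempty (Coh.HH X ((Scheme.Modules.pushforward i).obj G) p ≃ₗ[k] Coh.HH Z G p) := by
  refine ⟨LinearEquiv.ofBijective
    { toFun := CohPull.pushEdge i G p
      map_add' := fun a b => map_add (CohPull.pushEdge i G p) a b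
      map_smul' := fun c v => ?_ }
    (Groth.L16.PushEdge.pushEdge_bijective_of_locAcyclic i G
      (Groth.L10.TopCoh.locAcyclic_of_isClosedEmbedding (X := Z.toTopCat) (Y := X.toTopCat) i.base
        i.isClosedEmbedding (Coh.toAb G)) p)⟩
  refine (pushEdge_smul i G p (Coh.toGlobal (X ↘ Spec (CommRingCat.of k)) c) v).trans ?_
  refine congrArg (fun r : Coh.Γtop Z => r • CohPull.pushEdge i G p v) ?_
  show i.appTop ((X ↘ Spec (CommRingCat.of k)).appTop _) = (Z ↘ Spec (CommRingCat.of k)).appTop _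
  rw [← hi, Scheme.Hom.comp_appTop]
  rfl

theorem nonempty_HH_isoEquiv {X : Scheme.{u}} [X.Over (Spec (CommRingCat.of k))] {F G : X.Modules} (e : F ≅ G)
    (p : ℕ) : Nonempty (Coh.HH X F p ≃ₗ[k] Coh.HH X G p) :=
  ⟨LinearEquiv.ofBijective (Groth.L16.CohLinear.overLin k (hmap e.hom p)) (Function.bijective_iff_has_inverse.2
    ⟨hmap e.inv p, fun c => by
      show hmap e.inv p (hmap e.hom p c) = c
      rw [← Groth.L16.CohLinear.hmap_comp, e.hom_inv_id, Groth.L16.CohLinear.hmap_id],
    fun c => by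
      show hmap e.hom p (hmap e.inv p c) = c
      rw [← Groth.L16.CohLinear.hmap_comp, e.inv_hom_id, Groth.L16.CohLinear.hmap_id]⟩)⟩

/-- The obstruction theory with values in `H¹` of the normal sheaf. -/
theorem hasObsTheory_normal {Z X : Scheme.{u}} [Z.Over (Spec (CommRingCat.of k))]
    [X.Over (Spec (CommRingCat.of k))] (i : Z ⟶ X) [IsClosedImmersion i]
    (hi : i ≫ (X ↘ Spec (CommRingCat.of k)) = Z ↘ Spec (CommRingCat.of k))
    (hreg : Mor2.IsRegularClosedImmersion i.ker.subschemeι) [DCoh.HasSheafHom (Omega.conormal i)] :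
    HasObsTheory (localHilb X (X ↘ Spec (CommRingCat.of k)) i.ker)
      (Coh.HH Z ((DCoh.sheafHom (Omega.conormal i)).obj (Coh.structureModule Z)) 1) := by
  obtain ⟨e⟩ := nonempty_normalIso i
  obtain ⟨e₁⟩ := nonempty_HH_isoEquiv (k := k) e 1
  obtain ⟨e₂⟩ := nonempty_HH_pushEquiv i hi ((DCoh.sheafHom (Omega.conormal i)).obj (Coh.structureModule Z)) 1
  exact Groth.L12.hasObsTheory_equiv (e₁.symm ≪≫ₗ e₂) (hasObsTheory_localHilb hreg)

end Groth.L14.LocHilbLift
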