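import Groth.Agent.L14.LocHilb.Lift.Torsor
import Groth.Agent.L16.CohLinear
import Groth.Agent.L21.RR.Sections
import Groth.Agent.L20.Strat.Stratification
import Groth.Agent.L16.HomSh.Basic

/-! # The class of a homomorphism which extends locally -/

set_option autoImplicit false
set_option linter.style.haveILetI false
set_option linter.unusedSectionVars false
set_option backward.isDefEq.respectTransparency.types false
set_option backward.isDefEq.respectTransparency false

universe u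

open CategoryTheory CategoryTheory.Limits AlgebraicGeometry TopologicalSpace Opposite

noncomputable section

namespace Groth.L14.LocHilbLift

open Groth.L16.HomSh
open Groth.L16.CohLinear (delta deltaAdd_apply delta_apply abS abS_shortExact tm tF hMap_apply hmap)
open Groth.L18.Frame (rs ro rs_rs)
open Groth.L21.RR (e0)

variable {X : Scheme.{u}}

theorem e0_smul {M : X.Modules} (r : Coh.Γtop X) (y : Coh.HH X M 0) :
    e0 M (r • y) = (Coh.smulAb M r).hom.app (op ⊤) (e0 M y) :=
  (CategoryTheory.Sheaf.H.equiv₀_naturality _ (Coh.smulAb M r) y).symm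

theorem e0_symm_smul {M : X.Modules} (r : Γ(X, ⊤)) (c : Γ(M, ⊤)) :
    (e0 M).symm (r • c) = (show Coh.Γtop X from r) • (e0 M).symm c := by
  refine (e0 M).injective ?_
  rw [e0_smul, AddEquiv.apply_symm_apply, AddEquiv.apply_symm_apply, Coh.smulAb_app]
  congr 1
  exact (Groth.L18.Frame.ro_self le_rfl r).symm

theorem delta_natural {S T : ShortComplex X.Modules} (hS : S.ShortExact) (hT : T.ShortExact) (φ : S ⟶ T) (n : ℕ)
    (y : Coh.HH X S.X₃ n) : delta hT n (hmap φ.τ₃ n y) = hmap φ.τ₁ (n + 1) (delta hS n y) := by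
  let τ : abS S ⟶ abS T :=
    { τ₁ := tm φ.τ₁, τ₂ := tm φ.τ₂, τ₃ := tm φ.τ₃
      comm₁₂ := ((tF X).map_comp _ _).symm.trans ((congrArg (tF X).map φ.comm₁₂).trans ((tF X).map_comp _ _))
      comm₂₃ := ((tF X).map_comp _ _).symm.trans ((congrArg (tF X).map φ.comm₂₃).trans ((tF X).map_comp _ _)) }
  rw [delta_apply, delta_apply, deltaAdd_apply, deltaAdd_apply, Groth.L16.CohLinear.hmap_apply, Groth.L16.CohLinear.hmap_apply,
    hMap_apply, hMap_apply, Abelian.Ext.comp_assoc_of_second_deg_zero, Abelian.Ext.comp_assoc_of_third_deg_zero]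
  exact congrArg (fun z => Abelian.Ext.comp y z (rfl : n + 1 = n + 1))
    (ShortComplex.ShortExact.extClass_naturality (abS_shortExact hS) (abS_shortExact hT) τ).symm

variable {M' M M'' : X.Modules}

/-- The data of an extension problem. -/
structure ExtData (ι : M' ⟶ M) (g : M ⟶ M'') : Prop where
  qcoh : Coh.IsQCoh M
  qcoh'' : Coh.IsQCoh M''
  w : ι ≫ g = 0
  surj : ∀ U : X.affineOpens, Function.Surjective (g.app U.1)
  ker : ∀ (U : X.affineOpens) (m : Γ(M, U.1)), g.app U.1 m = 0 → ∃ m', ι.app U.1 m' = m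

variable {ι : M' ⟶ M} {g : M ⟶ M''} (N : X.Modules)

theorem pre_comp_pre (D : ExtData ι g) : pre g N ≫ pre ι N = 0 := hom_ext_ev fun U s W hW m => by
  show ev (secEquiv U s) hW (g.app W (ι.app W m)) = _
  rw [show g.app W (ι.app W m) = (ι ≫ g).app W m from rfl, D.w]
  exact map_zero _

theorem mono_pre (D : ExtData ι g) : Mono (pre g N) := by
  haveI := D.qcoh''
  refine ⟨fun {Z} a b e => Groth.L16.AffineBC.hom_ext_affine _ _ fun U hU z => ?_⟩
  have e1 : (pre g N).app U (a.app U z) = (pre g N).app U (b.app U z) := congr($(e).app U z)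
  refine (secEquiv U).injective (sub_eq_zero.1 (ev_top_injective hU fun m => ?_))
  obtain ⟨m₀, rfl⟩ := D.surj ⟨U, hU⟩ m
  show ev (secEquiv U (a.app U z)) le_rfl (g.app U m₀) - ev (secEquiv U (b.app U z)) le_rfl (g.app U m₀) = 0
  rw [← ev_pre, ← ev_pre, sub_eq_zero]
  exact congrArg (fun t => ev (secEquiv U t) le_rfl m₀) e1

theorem exact_pre (D : ExtData ι g) : (ShortComplex.mk (pre g N) (pre ι N) (pre_comp_pre N D)).Exact := by
  haveI := D.qcoh
  haveI := D.qcoh''
  rw [ShortComplex.exact_iff_epi_kernel_lift]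
  refine Groth.L00.SubExtend.epi_of_affine _ fun U hU z => ?_
  let s : Γ(homMod M N, U) := (kernel.ι (pre ι N)).app U z
  have hs : ∀ m', ev (secEquiv U s) le_rfl (ι.app U m') = 0 := fun m' => by
    have h0 : (kernel.ι (pre ι N) ≫ pre ι N).app U z = (0 : kernel (pre ι N) ⟶ homMod M' N).app U z := by
      rw [kernel.condition]
    exact congrArg (fun t => ev (secEquiv U t) le_rfl m') h0
  choose σ hσ using D.surj ⟨U, hU⟩
  have hd : ∀ m, ev (secEquiv U s) le_rfl (σ (g.app U m)) = ev (secEquiv U s) le_rfl m := fun m => by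
    obtain ⟨m', hm'⟩ := D.ker ⟨U, hU⟩ (σ (g.app U m) - m) (by rw [map_sub, hσ, sub_self])
    have := hs m'
    rwa [hm', map_sub, sub_eq_zero] at this
  let ℓ : Γ(M'', U) →ₗ[Γ(X, U)] Γ(N, U) :=
    { toFun := fun b => ev (secEquiv U s) le_rfl (σ b)
      map_add' := fun a b => by
        rw [← map_add, ← hd (σ a + σ b), map_add (g.app U).hom]
        exact congrArg (fun t => ev (secEquiv U s) le_rfl (σ t)) (congrArg₂ (· + ·) (hσ a).symm (hσ b).symm)
      map_smul' := fun c b => by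
        rw [RingHom.id_apply, ← ev_smul, ← hd (c • σ b), Scheme.Modules.Hom.app_smul g]
        exact congrArg (fun t => ev (secEquiv U s) le_rfl (σ t)) (congrArg (c • ·) (hσ b).symm) }
  obtain ⟨φ, hφ⟩ := exists_sec_of_linear hU ℓ
  refine ⟨(secEquiv U).symm φ, ?_⟩
  refine _root_.OmegaSh.ι_app_injective (pre ι N) U ?_
  have h2 : (kernel.lift (pre ι N) (pre g N) (pre_comp_pre N D) ≫ kernel.ι (pre ι N)).app U ((secEquiv U).symm φ) =
      (pre g N).app U ((secEquiv U).symm φ) := by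
    rw [kernel.lift_ι]
  refine h2.trans ((secEquiv U).injective (sub_eq_zero.1 (ev_top_injective hU fun m => ?_)))
  show ev φ le_rfl (g.app U m) - ev (secEquiv U s) le_rfl m = 0
  rw [hφ, sub_eq_zero]
  exact hd m

/-- The sequence of homomorphism sheaves. -/
abbrev homSeq (g : M ⟶ M'') : ShortComplex X.Modules :=
  ShortComplex.mk (pre g N) (cokernel.π (pre g N)) (cokernel.condition _)

theorem shortExact_homSeq (D : ExtData ι g) : (homSeq N g).ShortExact := by
  haveI := mono_pre N D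
  exact { exact := ShortComplex.exact_of_g_is_cokernel _ (cokernelIsCokernel _) }

/-- The comparison with the homomorphisms on the kernel. -/
abbrev descPre (D : ExtData ι g) : cokernel (pre g N) ⟶ homMod M' N :=
  cokernel.desc _ (pre ι N) (pre_comp_pre N D)

theorem descPre_injective (D : ExtData ι g) (U : X.Opens) : Function.Injective ((descPre N D).app U) := by
  let S : ShortComplex X.Modules := ShortComplex.mk (pre g N) (pre ι N) (pre_comp_pre N D)
  have hS : Mono (cokernel.desc S.f S.g S.zero) := S.exact_iff_mono_cokernel_desc.1 (exact_pre N D)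
  haveI : Mono (descPre N D) := hS
  exact Groth.L20.Strat.app_injective_of_mono _ U

variable {N}

/-- `v` is the class of `μ`. -/
def IsCls (D : ExtData ι g) (μ : M' ⟶ N) (v : Coh.HH X (homMod M'' N) 1) : Prop :=
  ∃ c : Γ(cokernel (pre g N), ⊤), (descPre N D).app ⊤ c = globalEquiv M' N μ ∧
    v = delta (shortExact_homSeq N D) 0 ((e0 _).symm c)

variable {D : ExtData ι g}

theorem IsCls.unique {μ : M' ⟶ N} {v v'} (h : IsCls D μ v) (h' : IsCls D μ v') : v = v' := by
  obtain ⟨c, hc, rfl⟩ := h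
  obtain ⟨c', hc', rfl⟩ := h'
  rw [descPre_injective N D ⊤ (hc.trans hc'.symm)]

theorem IsCls.sum {n : ℕ} (r : Fin n → Γ(X, ⊤)) (μ : Fin n → (M' ⟶ N)) (v : Fin n → Coh.HH X (homMod M'' N) 1)
    (h : ∀ i, IsCls D (μ i) (v i)) (μ' : M' ⟶ N) (hμ : globalEquiv M' N μ' = ∑ i, r i • globalEquiv M' N (μ i)) :
    IsCls D μ' (∑ i, (show Coh.Γtop X from r i) • v i) := by
  choose c hc hv using h
  refine ⟨∑ i, r i • c i, ?_, ?_⟩
  · rw [hμ, map_sum]
    refine Finset.sum_congr rfl fun i _ => ?_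
    rw [Scheme.Modules.Hom.app_smul, hc]
  · rw [map_sum, map_sum]
    refine Finset.sum_congr rfl fun i _ => ?_
    rw [e0_symm_smul, map_smul, hv]

theorem exists_isCls (D : ExtData ι g) (μ : M' ⟶ N)
    (hloc : ∀ y : X, ∃ W : X.Opens, y ∈ W ∧ ∃ s : Sec M N W,
      ∀ (W' : X.Opens) (h : W' ≤ W) (m : Γ(M', W')), ev s h (ι.app W' m) = μ.app W' m) :
    ∃ v, IsCls D μ v := by
  choose W hyW s hs using hloc
  let cs : ∀ y, Γ(cokernel (pre g N), W y) := fun y => (cokernel.π (pre g N)).app (W y) ((secEquiv (W y)).symm (s y))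
  have hcs : ∀ (y : X) (V : X.Opens) (h : V ≤ W y),
      (descPre N D).app V (rs _ h (cs y)) = rs _ (le_top : V ≤ ⊤) (globalEquiv M' N μ) := by
    intro y V h
    refine (congr($((descPre N D).mapPresheaf.naturality (homOfLE h).op) (cs y))).trans ?_
    have e : (descPre N D).app (W y) (cs y) = rs _ (le_top : W y ≤ ⊤) (globalEquiv M' N μ) := by
      refine Eq.trans ?_ ((secEquiv (W y)).injective (sec_ext fun W' hW' m => hs y W' hW' m) :
        (pre ι N).app (W y) ((secEquiv (W y)).symm (s y)) = rs _ (le_top : W y ≤ ⊤) (globalEquiv M' N μ))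
      show (cokernel.π (pre g N) ≫ descPre N D).app (W y) _ = _
      rw [cokernel.π_desc]
    show rs _ h ((descPre N D).app (W y) (cs y)) = _
    rw [e, rs_rs]
  obtain ⟨c, hc⟩ := exists_glue (cokernel (pre g N)) W (W := ⊤) (fun _ => le_top)
    (fun y _ => Opens.mem_iSup.2 ⟨y, hyW y⟩) cs fun i j => descPre_injective N D _ ((hcs i _ _).trans (hcs j _ _).symm)
  refine ⟨_, c, ext_cover _ W (fun _ => le_top) (fun y _ => Opens.mem_iSup.2 ⟨y, hyW y⟩) fun y => ?_, rfl⟩
  refine (congr($((descPre N D).mapPresheaf.naturality (homOfLE (le_top : W y ≤ ⊤)).op) c)).symm.trans ?_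
  show (descPre N D).app (W y) (rs _ (le_top : W y ≤ ⊤) c) = _
  rw [hc y]
  have h0 := hcs y (W y) le_rfl
  rwa [Groth.L18.Frame.rs_self] at h0

theorem IsCls.eq_zero_iff {μ : M' ⟶ N} {v} (h : IsCls D μ v) : v = 0 ↔ ∃ ψ : M ⟶ N, ι ≫ ψ = μ := by
  obtain ⟨c, hc, rfl⟩ := h
  constructor
  · intro h0
    obtain ⟨s₀, hs₀⟩ := (Groth.L16.CohLinear.exact_hmap_delta (shortExact_homSeq N D) 0 _).1 h0
    let s := e0 (homMod M N) s₀
    have hsc : (cokernel.π (pre g N)).app ⊤ s = c :=
      (Groth.L21.RR.e0_hmap _ s₀).symm.trans ((congrArg _ hs₀).trans ((e0 _).apply_symm_apply c))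
    refine ⟨(globalEquiv M N).symm s, Groth.L16.AffineBC.hom_ext_affine _ _ fun U _ m => ?_⟩
    have hs' : (pre ι N).app ⊤ s = globalEquiv M' N μ := by
      rw [← hc, ← hsc]
      show _ = (cokernel.π (pre g N) ≫ descPre N D).app ⊤ s
      rw [cokernel.π_desc]
    exact congrArg (fun t => ev (secEquiv ⊤ t) (le_top : U ≤ ⊤) m) hs'
  · rintro ⟨ψ, rfl⟩
    have hs : (descPre N D).app ⊤ ((cokernel.π (pre g N)).app ⊤ (globalEquiv M N ψ)) =
        globalEquiv M' N (ι ≫ ψ) := by
      show (cokernel.π (pre g N) ≫ descPre N D).app ⊤ _ = _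
      rw [cokernel.π_desc]
      exact (secEquiv ⊤).injective (sec_ext fun _ _ _ => rfl)
    rw [descPre_injective N D ⊤ (hc.trans hs.symm)]
    refine (Groth.L16.CohLinear.exact_hmap_delta (shortExact_homSeq N D) 0 _).2
      ⟨(e0 _).symm (globalEquiv M N ψ), ?_⟩
    refine (e0 _).injective ?_
    rw [Groth.L21.RR.e0_hmap, AddEquiv.apply_symm_apply, AddEquiv.apply_symm_apply]

theorem IsCls.pre {P' P : X.Modules} {ι' : P' ⟶ P} {g' : P ⟶ M''} {D' : ExtData ι' g'} (ν : M ⟶ P) (νK : M' ⟶ P')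
    (hν : ν ≫ g' = g) (hK : νK ≫ ι' = ι ≫ ν) {μ : P' ⟶ N} {v} (h : IsCls D' μ v) : IsCls D (νK ≫ μ) v := by
  obtain ⟨c, hc, rfl⟩ := h
  have w₁ : Groth.L14.LocHilbLift.pre g' N ≫ Groth.L14.LocHilbLift.pre ν N = Groth.L14.LocHilbLift.pre g N := by
    rw [← hν]
    exact hom_ext_ev fun _ _ _ _ _ => rfl
  let φ : homSeq N g' ⟶ homSeq N g :=
    { τ₁ := 𝟙 _
      τ₂ := Groth.L14.LocHilbLift.pre ν N
      τ₃ := cokernel.map _ _ (𝟙 _) (Groth.L14.LocHilbLift.pre ν N) (by rw [Category.id_comp, w₁])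
      comm₁₂ := by rw [Category.id_comp]; exact w₁.symm
      comm₂₃ := (cokernel.π_desc _ _ _).symm }
  refine ⟨φ.τ₃.app ⊤ c, ?_, ?_⟩
  · have e : φ.τ₃ ≫ descPre N D = descPre N D' ≫ Groth.L14.LocHilbLift.pre νK N := by
      refine coequalizer.hom_ext ?_
      rw [← Category.assoc, cokernel.π_desc, Category.assoc, cokernel.π_desc, ← Category.assoc, cokernel.π_desc]
      refine hom_ext_ev fun U s W hW m => ?_
      show ev (secEquiv U s) hW (ν.app W (ι.app W m)) = ev (secEquiv U s) hW (ι'.app W (νK.app W m))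
      rw [show ν.app W (ι.app W m) = (ι ≫ ν).app W m from rfl, ← hK]
      rfl
    show (φ.τ₃ ≫ descPre N D).app ⊤ c = _
    rw [e]
    show (Groth.L14.LocHilbLift.pre νK N).app ⊤ ((descPre N D').app ⊤ c) = _
    rw [hc]
    exact (secEquiv ⊤).injective (sec_ext fun _ _ _ => rfl)
  · have e := delta_natural (shortExact_homSeq N D') (shortExact_homSeq N D) φ 0 ((e0 _).symm c)
    rw [show (e0 _).symm (φ.τ₃.app ⊤ c) = hmap φ.τ₃ 0 ((e0 _).symm c) from (e0 _).injective (by
      rw [Groth.L21.RR.e0_hmap, AddEquiv.apply_symm_apply, AddEquiv.apply_symm_apply]), e]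
    exact (Groth.L16.CohLinear.hmap_id 1 _).symm

end Groth.L14.LocHilbLift
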