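import Groth.Agent.L12.Criteria
import Groth.Agent.L12.Obs

/-! # The tangent space of a complete local ring has the dimension of the cotangent space -/

set_option autoImplicit false
set_option linter.style.haveILetI false
set_option linter.unusedSectionVars false

universe u v

open CategoryTheory ArtFun ArtFun.Art IsLocalRing Groth.L12

noncomputable section

namespace Groth.L14.LocHilbLift

variable {k : Type u} [Field k]

theorem dual_mul_eq_zero {a b : dual k k} (ha : (dual k k).res a = 0) (hb : (dual k k).res b = 0) : a * b = 0 := by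
  have ha' : TrivSqZeroExt.fst a = 0 := ha
  have hb' : TrivSqZeroExt.fst b = 0 := hb
  refine TrivSqZeroExt.ext ?_ ?_
  · refine (TrivSqZeroExt.fst_mul (R := k) (M := k) _ _).trans ?_
    rw [ha', zero_mul]
    rfl
  · refine (TrivSqZeroExt.snd_mul (R := k) (M := k) _ _).trans ?_
    rw [ha', hb']
    simp
    rfl

theorem finrank_tangent_hR (R : CRing k k) [TangentStr (hR R.carrier R.res)] :
    Module.finrank k (TangentSpace (hR R.carrier R.res)) =
      Module.finrank (ResidueField R.carrier) (CotangentSpace R.carrier) := by
  obtain ⟨n, q, hq, hqs, hker, hn⟩ := exists_presentation R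
  let P := psRing (fieldCRing (k := k)) (Fin n)
  let X' : Fin n → P.carrier := fun j => (MvPowerSeries.X j : MvPowerSeries (Fin n) k)
  have hX : ∀ j, X' j ∈ maximalIdeal P.carrier := fun j => X_mem_maximalIdeal (R := k) j
  let L : TangentSpace (hR R.carrier R.res) →ₗ[k] (Fin n → k) :=
    { toFun := fun ψ j => tv (ψ : HomSet R.carrier R.res (dual k k)) (q (X' j))
      map_add' := fun ψ ψ' => by
        obtain ⟨z, h₁, h₂⟩ := exists_pair (h0_hR R.res) (rs_hR R.res).heps ψ ψ'
        subst h₁ h₂
        funext i
        exact congrArg (fun a : (hR R.carrier R.res).obj (dual k k) =>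
          tv (a : HomSet R.carrier R.res (dual k k)) (q (X' i))) (TangentStr.add_eq z)
      map_smul' := fun c ψ => by
        funext i
        exact congrArg (fun a : (hR R.carrier R.res).obj (dual k k) =>
          tv (a : HomSet R.carrier R.res (dual k k)) (q (X' i))) (TangentStr.smul_eq c ψ) }
  have hL : Function.Bijective L := by
    have hm : ∀ (φ : P.carrier →ₐ[k] dual k k), (dual k k).res.comp φ = P.res → ∀ a ∈ maximalIdeal P.carrier,
        (dual k k).res (φ a) = 0 := fun φ hφ a ha =>
      (DFunLike.congr_fun hφ a).trans ((CRing.mem_maximalIdeal_iff P a).1 ha)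
    haveI : IsAdicComplete (maximalIdeal (dual k k).carrier) (dual k k).carrier :=
      (artCRing (dual k k)).isAdicComplete
    refine ⟨fun ψ ψ' h => ?_, fun c => ?_⟩
    · let φ := (ψ : HomSet R.carrier R.res (dual k k))
      let φ' := (ψ' : HomSet R.carrier R.res (dual k k))
      have hφ : ∀ θ : HomSet R.carrier R.res (dual k k), (dual k k).res.comp (θ.1.comp q) = P.res := fun θ => by
        rw [← AlgHom.comp_assoc, θ.2, hq]
      have e : φ.1.comp q = φ'.1.comp q := by
        refine psHom_ext (fieldCRing (k := k)) (S := dual k k) (fun j => ?_) (AlgHom.ext fun l => ?_) fun j => ?_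
        · rw [(dual k k).mem_maximalIdeal_iff]
          exact hm _ (hφ φ) _ (hX j)
        · exact (((φ.1.comp q).comp (psC fieldCRing (Fin n))).commutes l).trans
            (((φ'.1.comp q).comp (psC fieldCRing (Fin n))).commutes l).symm
        · exact dual_ext ((hm _ (hφ φ) _ (hX j)).trans (hm _ (hφ φ') _ (hX j)).symm) (congrFun h j)
      refine Subtype.ext (AlgHom.ext fun r => ?_)
      obtain ⟨a, rfl⟩ := hqs r
      exact DFunLike.congr_fun e a
    · let s : Fin n → dual k k := fun j => (TrivSqZeroExt.inr (c j) : TrivSqZeroExt k k)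
      have hs : ∀ j, s j ∈ maximalIdeal (dual k k) := fun j =>
        ((dual k k).mem_maximalIdeal_iff _).2 (TrivSqZeroExt.fst_inr k (c j))
      obtain ⟨φ, -, hφX⟩ := exists_psLift (fieldCRing (k := k)) (Algebra.ofId k (dual k k)) s hs
      have hres : (dual k k).res.comp φ = P.res := by
        haveI : IsAdicComplete (maximalIdeal k) k := (artCRing (Art.base k k)).isAdicComplete
        refine psHom_ext _ (S := k) (fun j => ?_) (AlgHom.ext fun l => ?_) fun j => ?_
        · change (dual k k).res (φ _) ∈ _
          rw [hφX, ((dual k k).mem_maximalIdeal_iff _).1 (hs j)]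
          exact zero_mem _
        · exact ((((dual k k).res.comp φ).comp (psC fieldCRing (Fin n))).commutes l).trans
            ((P.res.comp (psC fieldCRing (Fin n))).commutes l).symm
        · change (dual k k).res (φ _) = P.res _
          rw [hφX, ((dual k k).mem_maximalIdeal_iff _).1 (hs j)]
          exact (psX_res (fieldCRing (k := k)) (Fin n) j).symm
      have h0 : ∀ a ∈ RingHom.ker q, φ a = 0 := fun a ha => by
        have ha2 := hker ha
        rw [pow_two] at ha2
        refine Submodule.mul_induction_on ha2 (fun a ha b hb => ?_) fun a b ha hb => by rw [map_add, ha, hb, add_zero]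
        rw [map_mul]
        exact dual_mul_eq_zero (hm φ hres a ha) (hm φ hres b hb)
      let ψ : R.carrier →ₐ[k] dual k k :=
        (Ideal.Quotient.liftₐ (RingHom.ker q) φ h0).comp (Ideal.quotientKerAlgEquivOfSurjective hqs).symm.toAlgHom
      have hψ : ∀ a, ψ (q a) = φ a := fun a => by
        show Ideal.Quotient.liftₐ (RingHom.ker q) φ h0
          ((Ideal.quotientKerAlgEquivOfSurjective hqs).symm (q a)) = φ a
        rw [show q a = Ideal.quotientKerAlgEquivOfSurjective hqs (Ideal.Quotient.mk (RingHom.ker q) a) from rfl,
          AlgEquiv.symm_apply_apply]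
        rfl
      refine ⟨(⟨ψ, AlgHom.ext fun r => ?_⟩ : HomSet R.carrier R.res (dual k k)), funext fun j => ?_⟩
      · obtain ⟨a, rfl⟩ := hqs r
        show (dual k k).res (ψ (q a)) = R.res (q a)
        rw [hψ]
        exact (DFunLike.congr_fun hres a).trans (DFunLike.congr_fun hq a).symm
      · show TrivSqZeroExt.snd (ψ (q (X' j))) = c j
        exact (congrArg TrivSqZeroExt.snd ((hψ _).trans (hφX j))).trans (TrivSqZeroExt.snd_inr k (c j))
  rw [(LinearEquiv.ofBijective L hL).finrank_eq, Module.finrank_fintype_fun_eq_card, Fintype.card_fin, hn]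

theorem finrank_cotangent_of_prorep {F : Art k k ⥤ Type u} (R : ProRep F) [TangentStr F] :
    Module.finrank (ResidueField R.ring.carrier) (CotangentSpace R.ring.carrier) =
      Module.finrank k (TangentSpace F) := by
  obtain ⟨T⟩ := nonempty_tangentStr (h0_hR R.ring.res) (rs_hR R.ring.res).heps
  letI := T
  obtain ⟨f, hf⟩ := exists_linearMap (h0_hR R.ring.res) (rs_hR R.ring.res).heps (NatMap.ofFamily R.family)
  rw [← finrank_tangent_hR R.ring]
  exact (LinearEquiv.ofBijective f ⟨fun a b h => (R.universal _).1 ((hf a).symm.trans (h.trans (hf b))),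
    fun y => ⟨((R.universal _).2 y).choose, (hf _).trans ((R.universal _).2 y).choose_spec⟩⟩).finrank_eq

end Groth.L14.LocHilbLift
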