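import Groth.Agent.L14.LocHilb.Lift.Obs.Transport
import Groth.Agent.L14.LocHilb.Lift.Obs.CotTan
import Groth.Agent.L14.LocHilb.Lift.Hilb
import Groth.Agent.L14.LocHilb.TangentEquiv
import Groth.Agent.L07.RegularQuotient
import Groth.Agent.L07.Avramov

/-! # Dimension bounds for the ring pro-representing the local Hilbert functor -/

set_option autoImplicit false
set_option linter.style.haveILetI false
set_option linter.unusedSectionVars false
set_option backward.isDefEq.respectTransparency.types false
set_option backward.isDefEq.respectTransparency false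

universe u

open CategoryTheory CategoryTheory.Limits AlgebraicGeometry ArtFun ArtFun.Art IsLocalRing

noncomputable section

namespace Groth.L14.LocHilbLift

open Groth.L16.HomSh (homMod isCoh_homMod sheafHomIso)

variable {k : Type u} [Field k]

theorem finite_HH_normal {Y X : Scheme.{u}} (y : Y ⟶ specPt k) [LocallyOfFiniteType y]
    [X.Over (Spec (CommRingCat.of k))] [IsProper (X ↘ Spec (CommRingCat.of k))] (i : X ⟶ Y) [IsClosedImmersion i]
    [DCoh.HasSheafHom (Omega.conormal i)] (n : ℕ) :
    Module.Finite k (Coh.HH X ((DCoh.sheafHom (Omega.conormal i)).obj (Coh.structureModule X)) n) := by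
  haveI : IsLocallyNoetherian Y := LocallyOfFiniteType.isLocallyNoetherian y
  haveI : IsLocallyNoetherian X := LocallyOfFiniteType.isLocallyNoetherian i
  have hN : Coh.IsCoh (homMod (Omega.conormal i) (Coh.structureModule X)) :=
    isCoh_homMod (Groth.L16.AffineBC.isCoh_pullback _ (Groth.L21.RR.isCoh_idealMod i.ker))
      Groth.L16.CohClosedPush.isCoh_structure
  haveI : Module.Finite k (Coh.HH X ((Groth.L16.HomSh.homModF (Omega.conormal i)).obj (Coh.structureModule X)) n) :=
    Groth.L16.ProperFinite.finite_HH k hN n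
  exact Groth.L16.CohLinear.finite_of_iso k ((sheafHomIso (Omega.conormal i)).app (Coh.structureModule X)).symm n

theorem finrank_cotangent_localHilb {Y X : Scheme.{u}} (y : Y ⟶ specPt k) [X.Over (Spec (CommRingCat.of k))]
    (i : X ⟶ Y) [IsClosedImmersion i] (hi : i ≫ y = X ↘ Spec (CommRingCat.of k))
    [DCoh.HasSheafHom (Omega.conormal i)] (R : ProRep (localHilb Y y i.ker)) :
    Module.finrank (ResidueField R.ring.carrier) (CotangentSpace R.ring.carrier) =
      Module.finrank k (Coh.HH X ((DCoh.sheafHom (Omega.conormal i)).obj (Coh.structureModule X)) 0) := by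
  obtain ⟨T⟩ := Groth.L12.nonempty_tangentStr (Groth.L12.miniversal_h0 _ (hullOfProRep R).miniversal)
    (Groth.L12.miniversal_heps _ (hullOfProRep R).miniversal)
  letI := T
  obtain ⟨e⟩ := Groth.L14.LocHilb.tangentEquiv_ker y i hi
  rw [finrank_cotangent_of_prorep R, e.finrank_eq]

theorem bounds_localHilb {Y X : Scheme.{u}} (y : Y ⟶ specPt k) [LocallyOfFiniteType y]
    [X.Over (Spec (CommRingCat.of k))] [IsProper (X ↘ Spec (CommRingCat.of k))]
    (i : X ⟶ Y) [IsClosedImmersion i] (hi : i ≫ y = X ↘ Spec (CommRingCat.of k))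
    (hreg : Mor2.IsRegularClosedImmersion i)
    [DCoh.HasSheafHom (Omega.conormal i)] (R : ProRep (localHilb Y y i.ker)) :
    ringKrullDim R.ring.carrier ≤ (Module.finrank k (Coh.HH X ((DCoh.sheafHom (Omega.conormal i)).obj (Coh.structureModule X)) 0) : WithBot ℕ∞) ∧
    (Module.finrank k (Coh.HH X ((DCoh.sheafHom (Omega.conormal i)).obj (Coh.structureModule X)) 0) : WithBot ℕ∞) ≤
      ringKrullDim R.ring.carrier + (Module.finrank k (Coh.HH X ((DCoh.sheafHom (Omega.conormal i)).obj (Coh.structureModule X)) 1) : WithBot ℕ∞) ∧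
    (ringKrullDim R.ring.carrier + (Module.finrank k (Coh.HH X ((DCoh.sheafHom (Omega.conormal i)).obj (Coh.structureModule X)) 1) : WithBot ℕ∞) =
        (Module.finrank k (Coh.HH X ((DCoh.sheafHom (Omega.conormal i)).obj (Coh.structureModule X)) 0) : WithBot ℕ∞) →
      Pi1.IsCompleteIntersection R.ring.carrier) := by
  haveI := finite_HH_normal (k := k) y i 1
  letI : Y.Over (Spec (CommRingCat.of k)) := ⟨y⟩
  obtain ⟨T⟩ := hasObsTheory_normal (k := k) i hi (isRegularClosedImmersion_ker i hreg)
  obtain ⟨h₁, h₂, -, h₄⟩ := Groth.Agent.S12327.result _ T (hullOfProRep R)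
  rw [← finrank_cotangent_localHilb y i hi R]
  refine ⟨h₁, h₂, fun e => ?_⟩
  obtain ⟨P, _, _, π, s, hπ, hs, hdim⟩ := h₄ e
  haveI : IsNoetherianRing R.ring.carrier := R.ring.isNoetherianRing
  refine Groth.L07.RegQuot.isCompleteIntersection_of_isRegularIdeal π hπ ⟨s.toList, ⟨?_, ?_⟩, ?_⟩
  · refine Groth.L07.RegQuot.isWeaklyRegular_of_dim _ (fun r hr => ?_) ?_
    · exact le_maximalIdeal (RingHom.ker_ne_top π) (hs ▸ Ideal.subset_span (Finset.mem_toList.1 hr))
    · have hl : Ideal.ofList s.toList = RingHom.ker π := by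
        rw [← hs]
        exact congrArg Ideal.span (Set.ext fun r => Finset.mem_toList)
      rw [ringKrullDim_eq_of_ringEquiv ((Ideal.quotEquivOfEq hl).trans (RingHom.quotientKerEquivOfSurjective hπ)),
        Finset.length_toList, hdim]
  · intro htop
    rw [smul_eq_mul, Ideal.mul_top] at htop
    refine RingHom.ker_ne_top π ?_
    rw [← hs, htop]
    exact congrArg Ideal.span (Set.ext fun r => Finset.mem_toList.symm)
  · rw [← hs]
    exact congrArg Ideal.span (Set.ext fun r => Finset.mem_toList)

theorem dim_eq_iff_smooth {Y X : Scheme.{u}} (y : Y ⟶ specPt k) [X.Over (Spec (CommRingCat.of k))]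
    (i : X ⟶ Y) [IsClosedImmersion i] (hi : i ≫ y = X ↘ Spec (CommRingCat.of k))
    [DCoh.HasSheafHom (Omega.conormal i)] (R : ProRep (localHilb Y y i.ker)) :
    ringKrullDim R.ring.carrier = (Module.finrank k (Coh.HH X ((DCoh.sheafHom (Omega.conormal i)).obj (Coh.structureModule X)) 0) : WithBot ℕ∞) ↔
      IsSmoothFunctor (localHilb Y y i.ker) := by
  rw [← finrank_cotangent_localHilb y i hi R]
  haveI : IsNoetherianRing R.ring.carrier := R.ring.isNoetherianRing
  constructor
  · intro h
    obtain ⟨n, q, hq, hqs, -, hn⟩ := Groth.L12.exists_presentation R.ring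
    haveI : IsRegularLocalRing (Groth.L12.psRing (Groth.L12.fieldCRing (k := k)) (Fin n)).carrier :=
      Groth.L01.PowSerReg.isRegularLocalRing k n
    haveI := Groth.L01.isDomain_of_regular (Groth.L12.psRing (Groth.L12.fieldCRing (k := k)) (Fin n)).carrier
    have hdim : ringKrullDim (Groth.L12.psRing (Groth.L12.fieldCRing (k := k)) (Fin n)).carrier = n :=
      Groth.L01.PowSerReg.ringKrullDim_eq k n
    have hinj : Function.Injective q := by
      rw [injective_iff_map_eq_zero]
      intro a ha
      by_contra hne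
      have h1 := ringKrullDim_quotient_succ_le_of_nonZeroDivisor (mem_nonZeroDivisors_of_ne_zero hne)
      have h2 : ringKrullDim R.ring.carrier ≤
          ringKrullDim ((Groth.L12.psRing (Groth.L12.fieldCRing (k := k)) (Fin n)).carrier ⧸ Ideal.span {a}) := by
        refine ringKrullDim_le_of_surjective (Ideal.Quotient.lift (Ideal.span {a}) q.toRingHom fun b hb => ?_) ?_
        · obtain ⟨c, rfl⟩ := Ideal.mem_span_singleton'.1 hb
          show q (c * a) = 0
          rw [map_mul, ha, mul_zero]
        · exact Ideal.Quotient.lift_surjective_of_surjective _ _ hqs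
      have h3 := (add_le_add h2 le_rfl).trans h1
      rw [h, hdim, ← hn] at h3
      exact absurd h3 (not_le.2 (by exact_mod_cast Nat.lt_succ_self n))
    intro B A μ hμ u
    obtain ⟨φ, rfl⟩ := (R.universal A).2 u
    obtain ⟨ψ, hψ⟩ := Groth.L12.smooth_psRing_field n μ hμ
      (⟨φ.1.comp q, by rw [← AlgHom.comp_assoc, φ.2, hq]⟩ : HomSet _ _ A)
    let e := AlgEquiv.ofBijective q ⟨hinj, hqs⟩
    let ψ₀ := (ψ : HomSet _ (Groth.L12.psRing (Groth.L12.fieldCRing (k := k)) (Fin n)).res B)
    let ψ' : HomSet R.ring.carrier R.ring.res B := ⟨ψ₀.1.comp e.symm.toAlgHom, AlgHom.ext fun r => by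
      show B.res (ψ₀.1 (e.symm r)) = R.ring.res r
      rw [← AlgHom.comp_apply, ψ₀.2, ← hq, AlgHom.comp_apply]
      exact congrArg R.ring.res (e.apply_symm_apply r)⟩
    refine ⟨R.family.app B ψ', (R.family.natural μ ψ').symm.trans (congrArg (R.family.app A) ?_)⟩
    refine Subtype.ext (AlgHom.ext fun r => ?_)
    have h4 := DFunLike.congr_fun (congrArg Subtype.val hψ) (e.symm r)
    refine h4.trans ?_
    exact congrArg φ.1 (e.apply_symm_apply r)
  · intro hs
    haveI := isRegular_of_smooth R hs
    rw [← IsLocalRing.spanFinrank_maximalIdeal_eq_finrank_cotangentSpace, IsRegularLocalRing.spanFinrank_maximalIdeal]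

end Groth.L14.LocHilbLift
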