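import Groth.Agent.L14.LocHilb.Lift.Obs.OfLift
import Groth.Agent.L14.LocHilb.TangentEquiv

/-! # The lifts of an embedded deformation -/

set_option autoImplicit false
set_option linter.style.haveILetI false
set_option linter.unusedSectionVars false
set_option backward.isDefEq.respectTransparency.types false
set_option backward.isDefEq.respectTransparency false

universe u

open CategoryTheory CategoryTheory.Limits AlgebraicGeometry TopologicalSpace Opposite ArtFun ArtFun.Art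

noncomputable section

namespace Groth.L14.LocHilbLift

open Groth.L14.LocTriv (R red vOf mul_eq_jMul)
open Groth.L14.LocHilb (trivXA)

variable {k : Type u} [Field k] {B A : Art k k} {X : Scheme.{u}} {x : X ⟶ specPt k} {I₀ : X.IdealSheafData}
  {p : B ⟶ A}

theorem SGen.sum_mem_of_forall_mem (G : SGen p) (J : (localHilb X x I₀).obj B) (U : X.affineOpens)
    (b : Fin G.S.n → Γ(X, U.1)) (hb : ∀ l, b l ∈ I₀.ideal U) : G.sum x U b ∈ IA x J U := by
  refine Ideal.sum_mem _ fun l _ => ?_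
  obtain ⟨z, hz, e⟩ := (mem_I₀_iff x J U _).1 (hb l)
  rw [← e, ← mul_eq_jMul _ U (G.S.kill l)]
  exact Ideal.mul_mem_left _ _ hz

theorem ideal_ext_of_IA {J J' : (trivXA (x := x) B).total.IdealSheafData}
    (h : ∀ U : X.affineOpens, J.ideal ⟨vOf (trivXA (x := x) B) U.1, Groth.L14.LocTriv.isAffineOpen_vOf _ U⟩ =
      J'.ideal ⟨vOf (trivXA (x := x) B) U.1, Groth.L14.LocTriv.isAffineOpen_vOf _ U⟩) : J = J' := by
  refine Scheme.IdealSheafData.ext (funext fun W => ?_)
  let U : X.affineOpens := ⟨(trivXA (x := x) B).i ⁻¹ᵁ W.1,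
    haveI := Groth.L14.DefLift.isClosedImmersion_i (trivXA (x := x) B)
    W.2.preimage (trivXA (x := x) B).i⟩
  have hW : W = ⟨vOf (trivXA (x := x) B) U.1, Groth.L14.LocTriv.isAffineOpen_vOf _ U⟩ :=
    Subtype.ext (Groth.L14.LocTriv.eq_vOf (trivXA (x := x) B) (V := W.1) (U := U.1) rfl)
  rw [hW]
  exact h U

/-- The lift of a family of extensions. -/
def SGen.liftOf (G : SGen p) (I : (localHilb X x I₀).obj A)
    (ψ : {ψ : Fin G.S.n → (PMod x p I ⟶ ClSub.quotMod I₀) //
      ∀ l, kernel.ι (redM x p I) ≫ ψ l = G.mu x I l}) :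
    {I' : (localHilb X x I₀).obj B // (localHilb X x I₀).map p I' = I} :=
  ⟨⟨SGen.lift ψ.2, SGen.flatOver_lift ψ.2, by
    rw [← XAincl_XAmap x p, Scheme.IdealSheafData.comap_comp, SGen.comap_lift ψ.2]
    exact I.2.2⟩, Subtype.ext (SGen.comap_lift ψ.2)⟩

theorem SGen.liftOf_bijective (G : SGen p) (I : (localHilb X x I₀).obj A) :
    Function.Bijective (G.liftOf (x := x) I) := by
  constructor
  · intro ψ ψ' h
    have hi : ∀ U, SGen.idealU ψ.2 U = SGen.idealU ψ'.2 U := fun U => by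
      rw [← SGen.lift_ideal ψ.2 U, ← SGen.lift_ideal ψ'.2 U]
      exact congrArg (fun K : {I' : (localHilb X x I₀).obj B // (localHilb X x I₀).map p I' = I} =>
        (K.1.1).ideal ⟨_, Groth.L14.LocTriv.isAffineOpen_vOf (trivXA (x := x) B) U⟩) h
    refine Subtype.ext (funext fun l => Groth.L16.AffineBC.hom_ext_affine _ _ fun U hU s => ?_)
    obtain ⟨b, hb⟩ := SGen.exists_sub_mem ψ.2 ⟨U, hU⟩ (sect_mem (p := p) (I := I) ⟨U, hU⟩ s)
    obtain ⟨sb, hsb⟩ := (mem_pid_iff (p := p) (I := I) ⟨U, hU⟩ _).1 (G.sum_mem (I := I) b)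
    have key : ∀ (χ : {ψ : Fin G.S.n → (PMod x p I ⟶ ClSub.quotMod I₀) //
        ∀ l, kernel.ι (redM x p I) ≫ ψ l = G.mu x I l}),
        sect x p I U s - G.sum x ⟨U, hU⟩ b ∈ SGen.idealU χ.2 ⟨U, hU⟩ → val (χ.1 l) U s = toY U (b l) := by
      intro χ hχ
      obtain ⟨t, ht, ht0⟩ := hχ
      have hst : t + sb = s := sect_injective U (by rw [map_add, ht, hsb, sub_add_cancel])
      rw [← hst, val_add, ht0 l, SGen.val_sum χ.2 ⟨U, hU⟩ b sb hsb l, zero_add]
    exact (key ψ hb).trans (key ψ' (hi ⟨U, hU⟩ ▸ hb)).symm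
  · rintro ⟨J, e⟩
    choose ψ hψ hspec using fun l => exists_psi_of_lift G J I e l
    refine ⟨⟨ψ, hψ⟩, Subtype.ext (Subtype.ext (ideal_ext_of_IA fun U => ?_))⟩
    show (SGen.lift hψ).ideal ⟨vOf (trivXA (x := x) B) U.1, Groth.L14.LocTriv.isAffineOpen_vOf _ U⟩ = IA x J U
    rw [SGen.lift_ideal hψ U]
    let L := SLift.ofFlat G I (IA x J U) (map_IA J I e U) (flat_IA x J U)
    refine le_antisymm ?_ fun z hz => ?_
    · rintro _ ⟨s, rfl, h0⟩
      obtain ⟨b, hb⟩ := L.exists_sub _ (sect_mem U s)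
      have hbI : ∀ l, b l ∈ I₀.ideal U := fun l =>
        (toY_eq_zero_iff U _).1 ((hspec l U s b hb).symm.trans (h0 l))
      exact (Submodule.sub_mem_iff_left (IA x J U) (G.sum_mem_of_forall_mem J U b hbI)).1 hb
    · obtain ⟨s, rfl⟩ := (mem_pid_iff (p := p) (I := I) U z).1 (L.le hz)
      refine ⟨s, rfl, fun l => (hspec l U s 0 ?_).trans (map_zero _)⟩
      rw [SGen.sum, G.S.sum_zero, sub_zero]
      exact hz

/-- The lifts form a torsor under `Hom(I₀, O/I₀)ⁿ`, if there are any. -/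
theorem nonempty_fibre_equiv (G : SGen p) (I : (localHilb X x I₀).obj A)
    (hne : ∃ I' : (localHilb X x I₀).obj B, (localHilb X x I₀).map p I' = I) :
    Nonempty ({I' : (localHilb X x I₀).obj B // (localHilb X x I₀).map p I' = I} ≃
      (Fin G.S.n → (ClSub.idealMod I₀ ⟶ ClSub.quotMod I₀))) := by
  choose ψ₀ hψ₀ using (exists_lift_iff G I).1 hne
  haveI := epi_redM' (x := x) (I := I) G.surj
  have hS : (redSeq x p I).ShortExact := { exact := ShortComplex.exact_of_f_is_kernel _ (kernelIsKernel _) }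
  let Φ : (Fin G.S.n → (ClSub.idealMod I₀ ⟶ ClSub.quotMod I₀)) →
      {ψ : Fin G.S.n → (PMod x p I ⟶ ClSub.quotMod I₀) // ∀ l, kernel.ι (redM x p I) ≫ ψ l = G.mu x I l} :=
    fun φ => ⟨fun l => redM x p I ≫ φ l + ψ₀ l, fun l => by
      rw [Preadditive.comp_add, kernel.condition_assoc, zero_comp, zero_add, hψ₀]⟩
  have hΦ : Function.Bijective Φ := by
    refine ⟨fun a b h => funext fun l => (cancel_epi (redM x p I)).1
      (add_right_cancel (congrFun (congrArg Subtype.val h) l)), fun ψ => ?_⟩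
    have hw : ∀ l, (redSeq x p I).f ≫ (ψ.1 l - ψ₀ l) = 0 := fun l => by
      show kernel.ι (redM x p I) ≫ (ψ.1 l - ψ₀ l) = 0
      rw [Preadditive.comp_sub, ψ.2, hψ₀, sub_self]
    haveI := hS.epi_g
    refine ⟨fun l => hS.exact.desc _ (hw l), Subtype.ext (funext fun l => ?_)⟩
    show redM x p I ≫ hS.exact.desc _ (hw l) + ψ₀ l = ψ.1 l
    rw [show redM x p I ≫ hS.exact.desc _ (hw l) = ψ.1 l - ψ₀ l from hS.exact.g_desc _ (hw l), sub_add_cancel]
  exact ⟨((Equiv.ofBijective Φ hΦ).trans (Equiv.ofBijective _ (G.liftOf_bijective I))).symm⟩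

theorem nonempty_hom_equiv_normal {Z : Scheme.{u}} (i : Z ⟶ X) [IsClosedImmersion i]
    [DCoh.HasSheafHom (Omega.conormal i)] :
    Nonempty ((ClSub.idealMod i.ker ⟶ ClSub.quotMod i.ker) ≃
      Coh.HH Z ((DCoh.sheafHom (Omega.conormal i)).obj (Coh.structureModule Z)) 0) := by
  let C := Omega.conormal i
  let O := Coh.structureModule Z
  let e := (Scheme.Modules.pullbackPushforwardAdjunction i).homEquiv (ClSub.idealMod i.ker) O
  let iso := (Groth.L16.HomSh.sheafHomIso C).app O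
  exact ⟨((Iso.homCongr (Iso.refl _) (asIso (Groth.L14.LocHilb.quotPush i))).trans (e.symm.trans
    (((Groth.L16.HomSh.globalEquiv C O).toEquiv).trans ((Equiv.ofBijective (iso.inv.app ⊤)
      (ConcreteCategory.bijective_of_isIso (iso.inv.app ⊤))).trans (Groth.L21.RR.e0 _).toEquiv.symm))))⟩

end Groth.L14.LocHilbLift
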