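import Groth.Agent.L14.LocHilb.Lift.Setup

/-! # Freeness along a semismall extension -/

set_option autoImplicit false
set_option linter.style.haveILetI false
set_option linter.unusedSectionVars false

universe u

open CategoryTheory ArtFun ArtFun.Art

namespace Groth.L14.LocHilbLift

open Groth.L14.LocTriv (SocBasis)

variable {k : Type u} [Field k] {B A : Art k k} (S : SocBasis B)

theorem smul_eq_res_smul {M : Type u} [AddCommGroup M] [Module B M] (b : B) (l : Fin S.n) (x : M) :
    S.e l • b • x = S.e l • algebraMap k B (B.res b) • x := by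
  have h : b - algebraMap k B (B.res b) ∈ IsLocalRing.maximalIdeal B := by
    rw [Art.mem_maximalIdeal_iff, map_sub, AlgHom.commutes]
    exact sub_self _
  rw [smul_smul, smul_smul, mul_comm, ← sub_eq_zero, ← sub_smul, mul_comm (S.e l) (algebraMap k B _), ← sub_mul,
    S.kill l _ h, zero_smul]

/-- In a free module, a relation among the basis of the socle has coefficients in `m M`. -/
theorem mem_smul_top_of_sum_eq_zero {M : Type u} [AddCommGroup M] [Module B M] [Module.Free B M]
    (x : Fin S.n → M) (h : ∑ l, S.e l • x l = 0) (l : Fin S.n) :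
    x l ∈ (IsLocalRing.maximalIdeal B • ⊤ : Submodule B M) := by
  classical
  let w := Module.Free.chooseBasis B M
  have h2 : ∀ i, B.res (w.repr (x l) i) = 0 := fun i => by
    have h3 := congrArg (fun z => w.repr z i) h
    simp only [map_sum, map_smul, Finsupp.coe_finsetSum, Finset.sum_apply, Finsupp.coe_smul, Pi.smul_apply,
      map_zero, Finsupp.coe_zero, Pi.zero_apply] at h3
    refine Fintype.linearIndependent_iff.1 S.indep (fun l => B.res (w.repr (x l) i)) ?_ l
    rw [← h3]
    refine Finset.sum_congr rfl fun l _ => ?_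
    have := smul_eq_res_smul S (w.repr (x l) i) l (1 : B)
    rw [smul_eq_mul, smul_eq_mul, smul_eq_mul, mul_one, smul_eq_mul, mul_one] at this
    rw [smul_eq_mul, this, Algebra.smul_def, mul_comm]
  rw [← w.linearCombination_repr (x l), Finsupp.linearCombination_apply]
  exact Submodule.sum_mem _ fun i _ =>
    Submodule.smul_mem_smul ((Art.mem_maximalIdeal_iff B _).2 (h2 i)) trivial

variable (p : B ⟶ A)

theorem exists_eq_sum_smul (hS : RingHom.ker p.toAlgHom.toRingHom ≤ S.span) (b : B)
    (hb : p b = 0) : ∃ c : Fin S.n → k, b = ∑ l, c l • S.e l := by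
  have : b ∈ S.span := hS (RingHom.mem_ker.2 hb)
  obtain ⟨d, rfl⟩ := Ideal.mem_span_range_iff_exists_fun.1 this
  refine ⟨fun l => B.res (d l), Finset.sum_congr rfl fun l _ => ?_⟩
  have := smul_eq_res_smul S (d l) l (1 : B)
  rw [smul_eq_mul, smul_eq_mul, smul_eq_mul, mul_one, smul_eq_mul, mul_one] at this
  rw [mul_comm, this, Algebra.smul_def, mul_comm]

/-- A freeness criterion along a semismall extension. -/
theorem free_of_semismall (hp : Function.Surjective p) (hSp : ∀ l, p (S.e l) = 0)
    (hS : RingHom.ker p.toAlgHom.toRingHom ≤ S.span) {M : Type u} [AddCommGroup M] [Module B M] {N : Type u}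
    [AddCommGroup N] [Module B N] [Module A N] (hcompat : ∀ (b : B) (y : N), b • y = p b • y)
    [Module.Free A N] (g : M →ₗ[B] N) (hg : Function.Surjective g)
    (hker : ∀ x, g x = 0 → ∃ y : Fin S.n → M, x = ∑ l, S.e l • y l)
    (htors : ∀ x : Fin S.n → M, ∑ l, S.e l • x l = 0 → ∀ l, x l ∈ (IsLocalRing.maximalIdeal B • ⊤ : Submodule B M)) :
    Module.Free B M := by
  classical
  let e := Module.Free.chooseBasis A N
  choose E hE using fun i => hg (e i)
  let F := Finsupp.linearCombination B E
  have hgF : ∀ l, g (F l) = Finsupp.linearCombination A e (l.mapRange p (map_zero p.toAlgHom)) := fun l => by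
    simp only [F, Finsupp.linearCombination_apply]
    rw [map_finsuppSum, Finsupp.sum_mapRange_index fun i => zero_smul A (e i)]
    simp only [map_smul, hE, hcompat]
  have hsurj : ∀ x, ∃ (l : Module.Free.ChooseBasisIndex A N →₀ B) (y : Fin S.n → M), x = F l + ∑ j, S.e j • y j := fun x => by
    obtain ⟨l', hl'⟩ := Finsupp.mapRange_surjective p (map_zero p.toAlgHom) hp (e.repr (g x))
    obtain ⟨y, hy⟩ := hker (x - F l') (by rw [map_sub, hgF, hl', e.linearCombination_repr, sub_self])
    exact ⟨l', y, by rw [← hy, add_sub_cancel]⟩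
  refine Module.Free.of_basis (Module.Basis.mk (v := E) ?_ ?_)
  · rw [LinearIndependent, injective_iff_map_eq_zero]
    intro l hl
    have hl0 : ∀ i, p (l i) = 0 := fun i => by
      have h1 := hgF l
      rw [show F l = 0 from hl, map_zero] at h1
      have h2 := congrArg e.repr h1
      rw [map_zero, e.repr_linearCombination] at h2
      exact (DFunLike.congr_fun h2 i).symm
    choose c hc using fun i => exists_eq_sum_smul S p hS _ (hl0 i)
    let l₁ : Fin S.n → (Module.Free.ChooseBasisIndex A N →₀ B) := fun j =>
      ∑ i ∈ l.support, Finsupp.single i (algebraMap k B (c i j))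
    have hl₁ : l = ∑ j, S.e j • l₁ j := by
      conv_lhs => rw [← Finsupp.sum_single l, Finsupp.sum]
      simp only [l₁, Finset.smul_sum, Finsupp.smul_single]
      rw [Finset.sum_comm]
      refine Finset.sum_congr rfl fun i _ => ?_
      rw [← Finsupp.single_finsetSum]
      exact congrArg _ ((hc i).trans (Finset.sum_congr rfl fun j _ => by
        rw [Algebra.smul_def, smul_eq_mul, mul_comm]))
    have h3 := htors (fun j => F (l₁ j)) (by
      simp only [← map_smul, ← map_sum, ← hl₁]
      exact hl)
    have h4 : ∀ x ∈ (IsLocalRing.maximalIdeal B • ⊤ : Submodule B M), ∀ i, A.res (e.repr (g x) i) = 0 := by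
      intro x hx
      induction hx using Submodule.smul_induction_on' with
      | smul b hb z _ =>
        intro i
        rw [map_smul, hcompat, map_smul, Finsupp.smul_apply, smul_eq_mul, map_mul, Art.res_app p,
          (Art.mem_maximalIdeal_iff B b).1 hb, zero_mul]
      | add z _ w _ hz hw =>
        intro i
        rw [map_add, map_add, Finsupp.add_apply, map_add, hz i, hw i, add_zero]
    refine Finsupp.ext fun i => ?_
    rw [Finsupp.zero_apply]
    by_cases hi : i ∈ l.support
    · rw [hc i]
      refine Finset.sum_eq_zero fun j _ => ?_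
      have h5 := h4 _ (h3 j) i
      rw [hgF, e.repr_linearCombination, Finsupp.mapRange_apply, Art.res_app p] at h5
      simp only [l₁, Finsupp.coe_finsetSum, Finset.sum_apply, Finsupp.single_apply, Finset.sum_ite_eq', if_pos hi,
        AlgHom.commutes] at h5
      rw [show c i j = 0 from h5, zero_smul]
    · exact Finsupp.notMem_support_iff.1 hi
  · intro x _
    obtain ⟨l, y, rfl⟩ := hsurj x
    choose l' y' hy' using fun j => hsurj (y j)
    have h : ∀ j, S.e j • y j = F (S.e j • l' j) := fun j => by
      rw [hy' j, smul_add, map_smul, Finset.smul_sum]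
      refine add_eq_left.2 (Finset.sum_eq_zero fun i _ => ?_)
      rw [smul_smul, S.kill i _ ((Art.mem_maximalIdeal_iff B _).2 (S.mem j)), zero_smul]
    simp only [h, ← map_sum, ← map_add, ← Finsupp.range_linearCombination]
    exact ⟨_, rfl⟩

end Groth.L14.LocHilbLift
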