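import Groth.Agent.L14.LocHilb.Lift.Obs.Mu
import Groth.Agent.L14.LocHilb.Lift.Lci

/-! # Local lifts along semismall extensions -/

set_option autoImplicit false
set_option linter.style.haveILetI false
set_option linter.unusedSectionVars false
set_option backward.isDefEq.respectTransparency.types false
set_option backward.isDefEq.respectTransparency false

universe u

open CategoryTheory CategoryTheory.Limits AlgebraicGeometry TopologicalSpace Opposite ArtFun ArtFun.Art

noncomputable section

namespace Groth.L14.LocHilbLift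

open Groth.L18.Frame (rs ro rs_rs rs_smul ro_ro ro_self)
open Groth.L14.LocTriv (R rB red res vOf SocBasis mul_eq_jMul)
open Groth.L14.LocHilb (trivXA)
open Groth.L16.HomSh

variable {k : Type u} [Field k] {B A : Art k k} {X : Scheme.{u}} {x : X ⟶ specPt k} {I₀ : X.IdealSheafData}
  {p : B ⟶ A} {G : SGen p} {I : (localHilb X x I₀).obj A}

/-- A lift of the preimage ideal on an affine open. -/
structure SLift (G : SGen p) (x : X ⟶ specPt k) (I : (localHilb X x I₀).obj A) (U : X.affineOpens) : Type u where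
  /-- the ideal -/
  J : Ideal (R (trivXA (x := x) B) U.1)
  le : J ≤ pid x p I U
  exists_sub : ∀ z ∈ pid x p I U, ∃ b, z - G.sum x U b ∈ J
  sum_mem : ∀ b, G.sum x U b ∈ J → ∀ l, b l ∈ I₀.ideal U

theorem map_red_of_map_eq {U : X.affineOpens} {J : Ideal (R (trivXA (x := x) B) U.1)}
    (hJ : J.map (π x p U).hom = IA x I U) : J.map (red (trivXA (x := x) B) U.1) = I₀.ideal U := by
  rw [ideal_I₀ x I U, ← hJ, Ideal.map_map]
  exact congrArg (fun f => Ideal.map f J) (RingHom.ext fun z => ((π x p U).red_hom z).symm)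

/-- A flat ideal mapping onto the given one is a lift. -/
def SLift.ofFlat (G : SGen p) (I : (localHilb X x I₀).obj A) {U : X.affineOpens}
    (J : Ideal (R (trivXA (x := x) B) U.1)) (hJ : J.map (π x p U).hom = IA x I U)
    (hfl : ((Ideal.Quotient.mk J).comp (rB (trivXA (x := x) B) U.1)).Flat) : SLift G x I U where
  J := J
  le := Ideal.map_le_iff_le_comap.1 hJ.le
  exists_sub z hz := by
    obtain ⟨z', hz', e⟩ := (Ideal.mem_map_iff_of_surjective _ (π_surjective x p G.surj U)).1
      (hJ.ge (hz : (π x p U).hom z ∈ IA x I U))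
    obtain ⟨b, hb⟩ := G.exists_of_π_eq_zero (x := x) (r := z - z') (by rw [map_sub, e, sub_self])
    exact ⟨b, by rwa [← hb, sub_sub_cancel]⟩
  sum_mem b hb j := by
    letI : Algebra B (R (trivXA (x := x) B) U.1) := (rB (trivXA (x := x) B) U.1).toAlgebra
    haveI : Module.Flat B (R (trivXA (x := x) B) U.1 ⧸ J) := hfl
    haveI : Module.Flat B (TensorProduct B B (R (trivXA (x := x) B) U.1 ⧸ J)) :=
      Module.Flat.of_linearEquiv (TensorProduct.lid B _)
    haveI : Module.Free B (R (trivXA (x := x) B) U.1 ⧸ J) := Groth.L01.NilDescent.free_of_flat_baseChange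
      (IsLocalRing.maximalIdeal B) (Groth.L12.isNilpotent_maximalIdeal B) B Function.injective_id _
    choose r hr using fun l => Groth.L14.LocTriv.red_surjective (trivXA (x := x) B) U (b l)
    have h1 := mem_smul_top_of_sum_eq_zero G.S (fun l => Ideal.Quotient.mk J (r l)) (by
      rw [← Ideal.Quotient.eq_zero_iff_mem.2 hb, SGen.sum, SocBasis.sum, map_sum]
      refine Finset.sum_congr rfl fun l _ => ?_
      rw [← hr l, ← mul_eq_jMul _ U (G.S.kill l), map_mul, Algebra.smul_def]
      rfl) j
    rw [Ideal.smul_top_eq_map, Submodule.restrictScalars_mem,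
      show algebraMap B (R (trivXA (x := x) B) U.1 ⧸ J) =
        (Ideal.Quotient.mk J).comp (rB (trivXA (x := x) B) U.1) from rfl, ← Ideal.map_map,
      Ideal.mem_quotient_iff_mem_sup] at h1
    obtain ⟨a, ha, c, hc, e⟩ := Submodule.mem_sup.1 h1
    rw [← hr j, ← e, map_add, (Groth.L14.LocTriv.red_eq_zero_iff _ U a).2 ha, zero_add,
      ← map_red_of_map_eq hJ]
    exact Ideal.mem_map_of_mem _ hc

theorem SLift.mP_le {U : X.affineOpens} (L : SLift G x I U) : mP x p I U ≤ L.J := by
  intro y hy
  refine Submodule.mul_induction_on hy (fun a ha z hz => ?_) fun y y' hy hy' => add_mem hy hy'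
  obtain ⟨b, hb⟩ := L.exists_sub z hz
  have h0 : a * G.sum x U b = 0 := by
    rw [SGen.sum, G.S.mul_sum, (Groth.L14.LocTriv.red_eq_zero_iff _ U a).2 ha]
    simp only [zero_mul]
    exact G.S.sum_zero _ _
  rw [show a * z = a * (z - G.sum x U b) by rw [mul_sub, h0, sub_zero]]
  exact Ideal.mul_mem_left _ _ hb

theorem SLift.exists_sec {U : X.affineOpens} (L : SLift G x I U) (l : Fin G.S.n) :
    ∃ s : Sec (PMod x p I) (ClSub.quotMod I₀) U.1, ∀ (W : X.Opens) (h : W ≤ U.1)
      (m : Γ(kernel (redM x p I), W)), ev s h ((kernel.ι (redM x p I)).app W m) = (G.mu x I l).app W m := by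
  choose r hr using fun s : Γ(PMod x p I, U.1) => L.exists_sub _ (sect_mem U s)
  have hwd : ∀ (s : Γ(PMod x p I, U.1)) r', sect x p I U.1 s - G.sum x U r' ∈ L.J →
      ∀ j, toY (I₀ := I₀) U.1 (r s j) = toY U.1 (r' j) := by
    intro s r' h j
    rw [← sub_eq_zero, ← map_sub]
    refine (toY_eq_zero_iff U _).2 (L.sum_mem (r s - r') ?_ j)
    have := sub_mem h (hr s)
    rwa [sub_sub_sub_cancel_left, SGen.sum, SGen.sum, ← G.S.sum_sub] at this
  let val : Γ(PMod x p I, U.1) → Γ(I₀.subscheme, I₀.subschemeι ⁻¹ᵁ U.1) := fun s => toY U.1 (r s l)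
  let ℓ : Γ(PMod x p I, U.1) →ₗ[Γ(X, U.1)] Γ(ClSub.quotMod I₀, U.1) :=
    { toFun := fun s => (show Γ(ClSub.quotMod I₀, U.1) from val s)
      map_add' := fun s s' => by
        show val (s + s') = val s + val s'
        refine (hwd (s + s') (r s + r s') ?_ l).trans (by rw [Pi.add_apply, map_add])
        rw [map_add, SGen.sum, G.S.sum_add, add_sub_add_comm]
        exact add_mem (hr s) (hr s')
      map_smul' := fun a s => by
        show val (a • s) = toY U.1 a * val s
        refine (hwd (a • s) (fun j => a * r s j) ?_ l).trans (map_mul _ _ _)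
        have h2 : G.sum x U (fun j => a * r s j) = sec x B U.1 a * G.sum x U (r s) := by
          rw [SGen.sum, SGen.sum, G.S.mul_sum, red_sec]
        rw [h2, sect_smul, ← mul_sub]
        exact Ideal.mul_mem_left _ _ (hr s) }
  obtain ⟨φ, hφ⟩ := exists_sec_of_linear U.2 ℓ
  haveI : Coh.IsQCoh (kernel (redM x p I)) := Groth.L18.IdealModule.isQCoh_kernel (redM x p I)
  let σ : Γ(homMod (kernel (redM x p I)) (ClSub.quotMod I₀), U.1) :=
    (pre (kernel.ι (redM x p I)) _).app U.1 ((secEquiv U.1).symm φ)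
  let τ : Γ(homMod (kernel (redM x p I)) (ClSub.quotMod I₀), U.1) :=
    rs _ (le_top : U.1 ≤ ⊤) (globalEquiv _ _ (G.mu x I l))
  have e : secEquiv U.1 σ = secEquiv U.1 τ := by
    refine sub_eq_zero.1 (ev_top_injective U.2 fun m => ?_)
    show ev φ le_rfl ((kernel.ι (redM x p I)).app U.1 m) - (G.mu x I l).app U.1 m = 0
    rw [hφ, sub_eq_zero]
    let s₀ := (kernel.ι (redM x p I)).app U.1 m
    obtain ⟨r₁, hr₁, e₁⟩ := G.mu_spec (I := I) U m
    exact (hwd s₀ r₁ (L.mP_le hr₁) l).trans (e₁ l)
  exact ⟨φ, fun W h m => congrArg (fun θ => ev θ h m) e⟩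

theorem exists_sLift_of_regular (G : SGen p) (I : (localHilb X x I₀).obj A) (U : X.affineOpens) (f : List Γ(X, U.1))
    (hreg : RingTheory.Sequence.IsWeaklyRegular Γ(X, U.1) f) (hI : I₀.ideal U = Ideal.ofList f) :
    Nonempty (SLift G x I U) := by
  let T := R (trivXA (x := x) B) U.1
  let S := R (trivXA (x := x) A) U.1
  choose F hF hFred using fun a : {a // a ∈ f} => exists_red_eq' (p := p) (I := I) (U := U) G.surj
    (a := a.1) (hI ▸ Ideal.subset_span a.2)
  let Fl : List T := f.attach.map F
  have hmapFl : Fl.map (red (trivXA (x := x) B) U.1) = f := by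
    rw [List.map_map, show (red (trivXA (x := x) B) U.1 : T → _) ∘ F = Subtype.val from funext hFred,
      List.attach_map_subtype_val]
  let J : Ideal T := Ideal.ofList Fl
  have hJle : J ≤ pid x p I U := Ideal.span_le.2 fun z (hz : z ∈ Fl) => by
    obtain ⟨a, -, rfl⟩ := List.mem_map.1 hz
    exact hF a
  have hJred : J.map (red (trivXA (x := x) B) U.1) = I₀.ideal U := by
    rw [Ideal.map_ofList, hmapFl, hI]
  letI : Algebra A S := (rB (trivXA (x := x) A) U.1).toAlgebra
  obtain ⟨ρ, hρ, hρid⟩ := exists_retract x I U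
  let mA : Ideal S := (IsLocalRing.maximalIdeal A).map (rB (trivXA (x := x) A) U.1)
  have hIA : IA x I U ≤ J.map (π x p U).hom := by
    let M : Submodule S S := IA x I U
    have step : IA x I U ≤ J.map (π x p U).hom ⊔ mA * IA x I U := by
      intro y hy
      have h1 := (mem_I₀_iff x I U _).2 ⟨y, hy, rfl⟩
      rw [← hJred, Ideal.mem_map_iff_of_surjective _ (Groth.L14.LocTriv.red_surjective _ U)] at h1
      obtain ⟨z, hz, e⟩ := h1
      have h2 : y - (π x p U).hom z ∈ IA x I U := sub_mem hy (hJle hz)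
      have h3 : y - (π x p U).hom z ∈ mA * IA x I U := by
        have h4 : red (trivXA (x := x) A) U.1 (y - (π x p U).hom z) = 0 := by
          rw [map_sub, (π x p U).red_hom, e, sub_self]
        have key : ∀ v ∈ mA, ∀ w, ρ (w * v) ∈ mA * IA x I U := by
          intro v hv
          refine Submodule.span_induction ?_ ?_ ?_ ?_ hv
          · rintro _ ⟨c, hc, rfl⟩ w
            rw [mul_comm w, show rB (trivXA (x := x) A) U.1 c * w = c • w from rfl, map_smul]
            exact Ideal.mul_mem_mul (Ideal.mem_map_of_mem _ hc) (hρ w)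
          · intro w
            rw [mul_zero, map_zero]
            exact zero_mem _
          · intro a b _ _ ha hb w
            rw [mul_add, map_add]
            exact add_mem (ha w) (hb w)
          · intro c a _ ha w
            rw [smul_eq_mul, ← mul_assoc]
            exact ha _
        have h5 := key _ ((Groth.L14.LocTriv.red_eq_zero_iff _ U _).1 h4) 1
        rwa [one_mul, hρid _ h2] at h5
      exact Submodule.mem_sup.2 ⟨_, Ideal.mem_map_of_mem _ hz, _, h3, add_sub_cancel _ _⟩
    obtain ⟨n, hn⟩ := Groth.L12.isNilpotent_maximalIdeal A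
    have it : ∀ j, IA x I U ≤ J.map (π x p U).hom ⊔ mA ^ j * IA x I U := by
      intro j
      induction j with
      | zero => simp
      | succ j ih =>
        refine ih.trans (sup_le le_sup_left ?_)
        refine (mul_le_mul_right step (mA ^ j)).trans ?_
        rw [Ideal.mul_sup, pow_succ, mul_assoc]
        exact sup_le_sup_right Ideal.mul_le_right _
    have := it n
    rwa [← Ideal.map_pow, hn, Ideal.zero_eq_bot, Ideal.map_bot, Submodule.bot_mul, sup_bot_eq] at this
  letI : Algebra B T := (rB (trivXA (x := x) B) U.1).toAlgebra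
  haveI : Module.Flat B T := Groth.L14.LocTriv.rB_flat _ U
  haveI := IsLocalRing.maximalIdeal.isMaximal B
  have hfl : Module.Flat B (T ⧸ J) := flat_quotient_ofList (IsLocalRing.maximalIdeal B)
    (Groth.L12.isNilpotent_maximalIdeal B) (red (trivXA (x := x) B) U.1)
    (Groth.L14.LocTriv.red_surjective _ U)
    (Ideal.ext fun r => RingHom.mem_ker.trans (Groth.L14.LocTriv.red_eq_zero_iff _ U r)) Fl
    (hmapFl.symm ▸ hreg)
  exact ⟨SLift.ofFlat G I J (le_antisymm (Ideal.map_le_iff_le_comap.2 hJle) hIA) hfl⟩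

theorem exists_local_extension (G : SGen p) (I : (localHilb X x I₀).obj A)
    (hreg : Mor2.IsRegularClosedImmersion I₀.subschemeι) (l : Fin G.S.n) (y : X) :
    ∃ W : X.Opens, y ∈ W ∧ ∃ s : Sec (PMod x p I) (ClSub.quotMod I₀) W,
      ∀ (W' : X.Opens) (h : W' ≤ W) (m : Γ(kernel (redM x p I), W')),
        ev s h ((kernel.ι (redM x p I)).app W' m) = (G.mu x I l).app W' m := by
  obtain ⟨U, f, hyU, hf, e⟩ := exists_regular_nbhd hreg y
  obtain ⟨L⟩ := exists_sLift_of_regular G I U f hf e
  exact ⟨U.1, hyU, L.exists_sec l⟩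

end Groth.L14.LocHilbLift
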