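import Groth.Agent.L14.LocHilb.Lift.Obs.Multi
import Groth.Agent.L14.LocHilb.Lift.Ext

/-! # The obstruction homomorphisms of a semismall extension -/

set_option autoImplicit false
set_option linter.style.haveILetI false
set_option linter.unusedSectionVars false
set_option backward.isDefEq.respectTransparency.types false
set_option backward.isDefEq.respectTransparency false

universe u

open CategoryTheory CategoryTheory.Limits AlgebraicGeometry TopologicalSpace Opposite ArtFun ArtFun.Art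

noncomputable section

namespace Groth.L14.LocHilbLift

open Groth.L18.Frame (rs ro rs_rs rs_smul ro_ro ro_self)
open Groth.L14.LocTriv (R rB red res vOf SocBasis)
open Groth.L14.LocHilb (trivXA)

variable {k : Type u} [Field k] {B A : Art k k} {X : Scheme.{u}} {x : X ⟶ specPt k} {I₀ : X.IdealSheafData}
  {p : B ⟶ A} (G : SGen p) {I : (localHilb X x I₀).obj A}

/-- The values on the kernel of the reduction. -/
def SGen.IsVal (U : X.affineOpens) (s : Γ(PMod x p I, U.1))
    (b : Fin G.S.n → Γ(I₀.subscheme, I₀.subschemeι ⁻¹ᵁ U.1)) : Prop :=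
  ∃ r, sect x p I U.1 s - G.sum x U r ∈ mP x p I U ∧ ∀ l, toY U.1 (r l) = b l

variable {G} {U U' : X.affineOpens}

theorem SGen.IsVal.unique {s : Γ(PMod x p I, U.1)} {b b'} (h : G.IsVal U s b) (h' : G.IsVal U s b') : b = b' := by
  obtain ⟨r, hr, e⟩ := h
  obtain ⟨r', hr', e'⟩ := h'
  funext l
  rw [← e l, ← e' l, ← sub_eq_zero, ← map_sub]
  refine (toY_eq_zero_iff U _).2 (G.mem_of_sum_mem_mP (I := I) (b := r - r') ?_ l)
  have h2 := sub_mem hr' hr
  rwa [sub_sub_sub_cancel_left, SGen.sum, SGen.sum, ← G.S.sum_sub] at h2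

theorem SGen.IsVal.add {s s' : Γ(PMod x p I, U.1)} {b b'} (h : G.IsVal U s b) (h' : G.IsVal U s' b') :
    G.IsVal U (s + s') (b + b') := by
  obtain ⟨r, hr, e⟩ := h
  obtain ⟨r', hr', e'⟩ := h'
  refine ⟨r + r', ?_, fun l => by rw [Pi.add_apply, map_add, e l, e' l]; rfl⟩
  rw [map_add, SGen.sum, G.S.sum_add, add_sub_add_comm]
  exact add_mem hr hr'

theorem SGen.IsVal.smul {s : Γ(PMod x p I, U.1)} {b} (h : G.IsVal U s b) (a : Γ(X, U.1)) :
    G.IsVal U (a • s) fun l => toY U.1 a * b l := by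
  obtain ⟨r, hr, e⟩ := h
  refine ⟨fun l => a * r l, ?_, fun l => by rw [map_mul, e l]⟩
  have h2 : G.sum x U (fun l => a * r l) = sec x B U.1 a * G.sum x U r := by
    rw [SGen.sum, SGen.sum, G.S.mul_sum, red_sec]
  rw [h2, sect_smul, ← mul_sub]
  exact Ideal.mul_mem_left _ _ hr

theorem SGen.IsVal.res (h : U'.1 ≤ U.1) {s : Γ(PMod x p I, U.1)} {b} (hv : G.IsVal U s b) :
    G.IsVal U' (rs (PMod x p I) h s) fun l => ro (Scheme.Hom.preimage_mono I₀.subschemeι h) (b l) := by
  obtain ⟨r, hr, e⟩ := hv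
  refine ⟨fun l => ro h (r l), ?_, fun l => ?_⟩
  · rw [sect_res, SGen.sum, ← G.S.res_sum _ U h, ← map_sub]
    exact res_mem_mP h hr
  · show toY U'.1 (ro h (r l)) = ro _ (b l)
    rw [← e l]
    exact ConcreteCategory.congr_hom (I₀.subschemeι.naturality (homOfLE h).op) _

variable (x I) in
theorem SGen.exists_mus (G : SGen p) : ∃ f : Fin G.S.n → (kernel (redM x p I) ⟶ ClSub.quotMod I₀),
    ∀ (U : X.affineOpens) (m : Γ(kernel (redM x p I), U.1)),
      G.IsVal U ((kernel.ι (redM x p I)).app U.1 m)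
        fun l => (show Γ(I₀.subscheme, I₀.subschemeι ⁻¹ᵁ U.1) from (f l).app U.1 m) := by
  have hex : ∀ (U : X.affineOpens) (m : Γ(kernel (redM x p I), U.1)),
      ∃ b, G.IsVal U ((kernel.ι (redM x p I)).app U.1 m) b := fun U m => by
    obtain ⟨r, hr⟩ := G.exists_sub_mem_mP (sect_mem U _) (red_kerι_eq_zero U m)
    exact ⟨fun l => toY U.1 (r l), r, hr, fun l => rfl⟩
  choose g hg using hex
  have main : ∀ l, ∃ f : kernel (redM x p I) ⟶ ClSub.quotMod I₀,
      ∀ (U : X.affineOpens) (m : Γ(kernel (redM x p I), U.1)),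
        (show Γ(I₀.subscheme, I₀.subschemeι ⁻¹ᵁ U.1) from f.app U.1 m) = g U m l := by
    intro l
    let φ : ∀ U : X.Opens, IsAffineOpen U → (Γ(kernel (redM x p I), U) →+ Γ(ClSub.quotMod I₀, U)) := fun U hU =>
      AddMonoidHom.mk' (fun m => g ⟨U, hU⟩ m l) fun a b => by
        refine congrFun (SGen.IsVal.unique (hg ⟨U, hU⟩ (a + b)) (b' := g ⟨U, hU⟩ a + g ⟨U, hU⟩ b) ?_) l
        rw [map_add ((kernel.ι (redM x p I)).app U).hom]
        exact (hg ⟨U, hU⟩ a).add (hg ⟨U, hU⟩ b)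
    refine Exists.elim (Groth.L16.AffineBC.exists_hom_affine φ ?_ ?_) fun f hf => ?_
    rotate_left 2
    · exact ⟨f, fun U m => by rw [hf U.1 U.2]; rfl⟩
    · intro U V hU hV h m
      refine congrFun (SGen.IsVal.unique (hg ⟨V, hV⟩ _)
        (b' := fun l => ro (Scheme.Hom.preimage_mono I₀.subschemeι h) (g ⟨U, hU⟩ m l)) ?_) l
      have h1 := congr($((Scheme.Modules.Hom.mapPresheaf (kernel.ι (redM x p I))).naturality (homOfLE h).op) m)
      rw [show (kernel.ι (redM x p I)).app V ((kernel (redM x p I)).presheaf.map (homOfLE h).op m) =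
        rs (PMod x p I) h ((kernel.ι (redM x p I)).app U m) from h1]
      exact (hg ⟨U, hU⟩ m).res (U' := ⟨V, hV⟩) h
    · intro U hU a m
      refine congrFun (SGen.IsVal.unique (hg ⟨U, hU⟩ _) (b' := fun l => toY U a * g ⟨U, hU⟩ m l) ?_) l
      rw [Scheme.Modules.Hom.app_smul (kernel.ι (redM x p I)) a m]
      exact (hg ⟨U, hU⟩ m).smul a
  choose f hf using main
  exact ⟨f, fun U m => by simp only [hf]; exact hg U m⟩

variable (x I) in
/-- The obstruction homomorphisms. -/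
def SGen.mu (G : SGen p) (l : Fin G.S.n) : kernel (redM x p I) ⟶ ClSub.quotMod I₀ := (G.exists_mus x I).choose l

theorem SGen.mu_spec (U : X.affineOpens) (m : Γ(kernel (redM x p I), U.1)) :
    G.IsVal U ((kernel.ι (redM x p I)).app U.1 m)
      fun l => (show Γ(I₀.subscheme, I₀.subschemeι ⁻¹ᵁ U.1) from (G.mu x I l).app U.1 m) :=
  (G.exists_mus x I).choose_spec U m

theorem SGen.mu_eq (U : X.affineOpens) (m : Γ(kernel (redM x p I), U.1))
    {b : Fin G.S.n → Γ(I₀.subscheme, I₀.subschemeι ⁻¹ᵁ U.1)} (h : G.IsVal U ((kernel.ι (redM x p I)).app U.1 m) b)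
    (l : Fin G.S.n) : (show Γ(I₀.subscheme, I₀.subschemeι ⁻¹ᵁ U.1) from (G.mu x I l).app U.1 m) = b l :=
  congrFun (SGen.IsVal.unique (G.mu_spec U m) h) l

theorem redM_surjective' (hp : Function.Surjective p) (U : X.affineOpens) :
    Function.Surjective ((redM x p I).app U.1) := by
  intro b
  obtain ⟨z, hz, e⟩ := exists_red_eq' (p := p) (I := I) (U := U) hp
    ((Groth.L18.IdealModule.mem_ideal_iff I₀ U.2 (OmegaSh.idealSect I₀ U.1 b)).2 ⟨b, rfl⟩)
  obtain ⟨s, rfl⟩ := (mem_pid_iff U z).1 hz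
  exact ⟨s, idealSect_injective U.1 ((redM_spec U s).trans e)⟩

theorem epi_redM' (hp : Function.Surjective p) : Epi (redM x p I) :=
  Groth.L00.SubExtend.epi_of_affine _ fun O hO => redM_surjective' hp ⟨O, hO⟩

end Groth.L14.LocHilbLift
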