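import Groth.Agent.L14.LocHilb.Lift.Obs.Free
import Groth.Agent.L14.LocHilb.Lift.Mod
import Groth.Agent.L14.DefLift.LocTriv.Ext

/-! # Embedded deformations along a semismall extension: the obstruction homomorphisms -/

set_option autoImplicit false
set_option linter.style.haveILetI false
set_option linter.unusedSectionVars false
set_option backward.isDefEq.respectTransparency.types false
set_option backward.isDefEq.respectTransparency false

universe u

open CategoryTheory CategoryTheory.Limits AlgebraicGeometry TopologicalSpace Opposite ArtFun ArtFun.Art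

noncomputable section

namespace Groth.L14.LocHilbLift

open Groth.L18.Frame (rs ro rs_rs rs_smul ro_ro ro_self)
open Groth.L14.LocTriv (R rB red res vOf SocBasis jMul mul_eq_jMul)
open Groth.L14.LocHilb (trivXA)

variable {k : Type u} [Field k] {B A : Art k k}

/-- A basis of the kernel of a semismall extension. -/
structure SGen (p : B ⟶ A) where
  /-- the basis -/
  S : SocBasis B
  surj : Function.Surjective p
  ker_le : RingHom.ker p.toAlgHom.toRingHom ≤ S.span
  app_e : ∀ l, p (S.e l) = 0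

theorem nonempty_sgen {p : B ⟶ A} (hp : IsSemismallExt p) : Nonempty (SGen p) := by
  obtain ⟨S, _, hS, hSp, -⟩ := Groth.L14.LocTriv.exists_socBasis p hp
  exact ⟨⟨S, hp.1, hS, hSp⟩⟩

variable {X : Scheme.{u}} {x : X ⟶ specPt k} {I₀ : X.IdealSheafData} {p : B ⟶ A} (G : SGen p)
  {I : (localHilb X x I₀).obj A} {U : X.affineOpens}

/-- `Σ eₗ bₗ`. -/
abbrev SGen.sum (x : X ⟶ specPt k) (G : SGen p) (U : X.affineOpens) (b : Fin G.S.n → Γ(X, U.1)) :
    R (trivXA (x := x) B) U.1 := G.S.sum (trivXA (x := x) B) U b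

theorem SGen.π_sum (b : Fin G.S.n → Γ(X, U.1)) : (π x p U).hom (G.sum x U b) = 0 := by
  simp only [SGen.sum, SocBasis.sum, map_sum]
  refine Finset.sum_eq_zero fun l _ => ?_
  rw [jMul, map_mul, (π x p U).hom_rB, G.app_e, map_zero, zero_mul]

theorem SGen.exists_of_π_eq_zero {r : R (trivXA (x := x) B) U.1} (hr : (π x p U).hom r = 0) :
    ∃ b, r = G.sum x U b :=
  G.S.exists_eq_sum _ U (Ideal.map_mono G.ker_le
    (Groth.L14.LocTriv.mem_map_of_hom_eq_zero (spl x B U) (π x p U) hr))

theorem exists_red_eq' (hp : Function.Surjective p) {a : Γ(X, U.1)} (ha : a ∈ I₀.ideal U) :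
    ∃ z ∈ pid x p I U, red (trivXA (x := x) B) U.1 z = a := by
  obtain ⟨r, hr, hra⟩ := (mem_I₀_iff x I U a).1 ha
  obtain ⟨z, rfl⟩ := π_surjective x p hp U r
  exact ⟨z, hr, ((π x p U).red_hom z).symm.trans hra⟩

theorem SGen.sum_mem (b : Fin G.S.n → Γ(X, U.1)) : G.sum x U b ∈ pid x p I U := by
  rw [pid, Ideal.mem_comap, G.π_sum]
  exact zero_mem _

theorem SGen.exists_sub_mem_mP {z : R (trivXA (x := x) B) U.1} (hz : z ∈ pid x p I U)
    (h0 : red (trivXA (x := x) B) U.1 z = 0) : ∃ b, z - G.sum x U b ∈ mP x p I U := by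
  letI : Algebra A (R (trivXA (x := x) A) U.1) := (rB (trivXA (x := x) A) U.1).toAlgebra
  obtain ⟨ρ, hρ, hρid⟩ := exists_retract x I U
  have key : ∀ y ∈ (IsLocalRing.maximalIdeal A).map (rB (trivXA (x := x) A) U.1),
      ∀ w, ∃ z' ∈ mP x p I U, (π x p U).hom z' = ρ (w * y) := by
    intro y hy
    refine Submodule.span_induction ?_ ?_ ?_ ?_ hy
    · rintro _ ⟨c, hc, rfl⟩ w
      obtain ⟨c', rfl⟩ := G.surj c
      obtain ⟨v, hv⟩ := π_surjective x p G.surj U (ρ w)
      have hc' : c' ∈ IsLocalRing.maximalIdeal B := by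
        rw [Art.mem_maximalIdeal_iff]
        exact (Art.res_app p c').symm.trans ((Art.mem_maximalIdeal_iff A _).1 hc)
      have hv' : v ∈ pid x p I U := by
        rw [pid, Ideal.mem_comap, hv]
        exact hρ w
      refine ⟨_, Ideal.mul_mem_mul (Ideal.mem_map_of_mem _ hc') hv', ?_⟩
      rw [map_mul, (π x p U).hom_rB, hv, mul_comm w]
      exact (map_smul ρ (p c') w).symm
    · exact fun w => ⟨0, zero_mem _, by rw [mul_zero, map_zero, map_zero]⟩
    · intro a b _ _ iha ihb w
      obtain ⟨u, hu, eu⟩ := iha w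
      obtain ⟨v, hv, ev⟩ := ihb w
      exact ⟨u + v, add_mem hu hv, by rw [map_add, eu, ev, mul_add, map_add]⟩
    · intro c a _ iha w
      obtain ⟨u, hu, eu⟩ := iha (w * c)
      exact ⟨u, hu, by rw [eu, smul_eq_mul, mul_assoc]⟩
  obtain ⟨z', hz', e⟩ := key _ ((Groth.L14.LocTriv.red_eq_zero_iff _ U _).1 (((π x p U).red_hom z).trans h0)) 1
  obtain ⟨b, hb⟩ := G.exists_of_π_eq_zero (x := x) (r := z - z')
    (by rw [map_sub, e, one_mul, hρid _ hz, sub_self])
  exact ⟨b, by rwa [show z - G.sum x U b = z' by rw [← hb]; ring]⟩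

theorem SGen.mem_of_sum_mem_mP {b : Fin G.S.n → Γ(X, U.1)} (h : G.sum x U b ∈ mP x p I U) (j : Fin G.S.n) :
    b j ∈ I₀.ideal U := by
  classical
  let S := R (trivXA (x := x) A) U.1
  let T := R (trivXA (x := x) B) U.1
  letI : Algebra B T := (rB (trivXA (x := x) B) U.1).toAlgebra
  letI : Algebra A S := (rB (trivXA (x := x) A) U.1).toAlgebra
  haveI : Module.Flat A S := Groth.L14.LocTriv.rB_flat _ U
  haveI : Module.Flat A (S ⧸ IA x I U) := flat_IA x I U
  let m := IsLocalRing.maximalIdeal A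
  let IM : Submodule A S := (IA x I U).restrictScalars A
  obtain ⟨ρ₀, hρ₀, hρid⟩ := exists_retract x I U
  let ρ : S →ₗ[A] IM := LinearMap.codRestrict IM ρ₀ hρ₀
  haveI : Module.Flat A IM := Module.Flat.of_retract IM.subtype ρ (LinearMap.ext fun y => Subtype.ext (hρid y.1 y.2))
  haveI : Module.Flat A (TensorProduct A A IM) := Module.Flat.of_linearEquiv (TensorProduct.lid A IM)
  haveI : Module.Free A IM :=
    Groth.L01.NilDescent.free_of_flat_baseChange m (Groth.L12.isNilpotent_maximalIdeal A) A Function.injective_id IM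
  let e := Module.Free.chooseBasis A IM
  choose E hE using fun i => π_surjective x p G.surj U (e i : S)
  have hEmem : ∀ i, E i ∈ pid x p I U := fun i => by
    rw [pid, Ideal.mem_comap, hE]
    exact (e i).2
  let lin : (Module.Free.ChooseBasisIndex A IM →₀ B) →ₗ[B] T := Finsupp.linearCombination B E
  have hπlin : ∀ l, (π x p U).hom (lin l) =
      (Finsupp.linearCombination A e (l.mapRange p (map_zero p.toAlgHom)) : IM).1 := fun l => by
    simp only [lin, Finsupp.linearCombination_apply]
    rw [Finsupp.sum_mapRange_index fun i => zero_smul A (e i)]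
    simp only [Finsupp.sum, map_sum, AddSubmonoidClass.coe_finsetSum]
    refine Finset.sum_congr rfl fun i _ => ?_
    rw [Algebra.smul_def, map_mul, hE]
    exact congrArg (· * _) ((π x p U).hom_rB (l i))
  have hdec : ∀ z ∈ pid x p I U, ∃ l b, z = lin l + G.sum x U b := fun z hz => by
    obtain ⟨l, hl⟩ := Finsupp.mapRange_surjective p (map_zero p.toAlgHom) G.surj (e.repr ⟨_, hz⟩)
    obtain ⟨s, hs⟩ := G.exists_of_π_eq_zero (x := x) (r := z - lin l) (by
      rw [map_sub, hπlin, hl, e.linearCombination_repr, sub_self])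
    exact ⟨l, s, by rw [← hs, add_sub_cancel]⟩
  have key : ∀ y ∈ (IsLocalRing.maximalIdeal B).map (rB (trivXA (x := x) B) U.1) * pid x p I U,
      ∃ l, y = lin l := by
    intro y hy
    refine Submodule.mul_induction_on hy (fun a ha z hz => ?_) fun y y' hy hy' => ?_
    · revert z
      refine Submodule.span_induction ?_ ?_ ?_ ?_ ha
      · rintro _ ⟨c, hc, rfl⟩ z hz
        obtain ⟨l, b, rfl⟩ := hdec z hz
        refine ⟨c • l, ?_⟩
        rw [map_smul, Algebra.smul_def, mul_add, SGen.sum, G.S.mul_sum, Groth.L14.LocTriv.red_rB,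
          (Art.mem_maximalIdeal_iff B c).1 hc, map_zero]
        simp only [zero_mul]
        rw [show (fun _ : Fin G.S.n => (0 : Γ(X, U.1))) = 0 from rfl, G.S.sum_zero, add_zero]
        rfl
      · intro z _
        exact ⟨0, by rw [zero_mul, map_zero]⟩
      · intro a a' _ _ iha iha' z hz
        obtain ⟨l₁, e₁⟩ := iha z hz
        obtain ⟨l₂, e₂⟩ := iha' z hz
        exact ⟨l₁ + l₂, by rw [add_mul, e₁, e₂, map_add]⟩
      · intro c a _ iha z hz
        obtain ⟨l, e₁⟩ := iha (c * z) (Ideal.mul_mem_left _ _ hz)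
        exact ⟨l, by rw [← e₁, smul_eq_mul]; ring⟩
    · obtain ⟨l, rfl⟩ := hy
      obtain ⟨l', rfl⟩ := hy'
      exact ⟨l + l', (map_add lin l l').symm⟩
  obtain ⟨l, hl⟩ := key _ h
  have hl0 : ∀ i, p (l i) = 0 := fun i => by
    have h1 := hπlin l
    rw [← hl, G.π_sum, eq_comm, ← Submodule.coe_zero (p := IM), Subtype.coe_inj] at h1
    have h2 := congrArg e.repr h1
    rw [map_zero, e.repr_linearCombination] at h2
    exact DFunLike.congr_fun h2 i
  choose c hc using fun i => exists_eq_sum_smul G.S p G.ker_le _ (hl0 i)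
  let w : Fin G.S.n → T := fun j => ∑ i ∈ l.support, rB (trivXA (x := x) B) U.1 (algebraMap k B (c i j)) * E i
  have h2 : G.sum x U b = G.sum x U fun j => red (trivXA (x := x) B) U.1 (w j) := by
    rw [hl]
    simp only [lin, w, SGen.sum, SocBasis.sum, ← mul_eq_jMul _ U (G.S.kill _), Finset.mul_sum,
      Finsupp.linearCombination_apply, Finsupp.sum]
    rw [Finset.sum_comm]
    refine Finset.sum_congr rfl fun i _ => ?_
    rw [Algebra.smul_def, show algebraMap B T (l i) = rB (trivXA (x := x) B) U.1 (l i) from rfl, hc i, map_sum,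
      Finset.sum_mul]
    refine Finset.sum_congr rfl fun j _ => ?_
    rw [Algebra.smul_def, map_mul, mul_left_comm, mul_assoc]
  rw [congrFun (G.S.sum_injective _ _ h2) j]
  exact red_mem (Ideal.sum_mem _ fun i _ => Ideal.mul_mem_left _ _ (hEmem i))

end Groth.L14.LocHilbLift
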