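import Groth.Agent.L14.LocHilb.Lift.Obs.Mu
import Groth.Agent.L16.HomSh.Basic

/-! # Functoriality of the obstruction homomorphisms in the extension -/

set_option autoImplicit false
set_option linter.style.haveILetI false
set_option linter.unusedSectionVars false
set_option backward.isDefEq.respectTransparency.types false
set_option backward.isDefEq.respectTransparency false

universe u

open CategoryTheory CategoryTheory.Limits AlgebraicGeometry TopologicalSpace Opposite ArtFun ArtFun.Art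

noncomputable section

namespace Groth.L14.LocHilbLift

open Groth.L18.Frame (rs ro rs_rs rs_smul ro_ro ro_self)
open Groth.L14.LocTriv (R rB red res vOf SocBasis jMul mul_eq_jMul cU)
open Groth.L14.LocHilb (trivXA)
open Groth.L16.HomSh

variable {k : Type u} [Field k] {B B'' A : Art k k} {X : Scheme.{u}} {x : X ⟶ specPt k} {I₀ : X.IdealSheafData}
  {p : B ⟶ A} {p'' : B'' ⟶ A} (q : B ⟶ B'') {I : (localHilb X x I₀).obj A}

theorem π_comp (hq : q ≫ p'' = p) (U : X.affineOpens) (z : R (trivXA (x := x) B) U.1) :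
    (π x p'' U).hom ((π x q U).hom z) = (π x p U).hom z := by
  subst hq
  have e1 : ∀ h h', (XAmap x q).appLE (vOf (trivXA (x := x) B) U.1) (vOf (trivXA (x := x) B'') U.1) h ≫
      (XAmap x p'').appLE _ (vOf (trivXA (x := x) A) U.1) h' =
      (XAmap x p'' ≫ XAmap x q).appLE _ _ (by
        rw [Scheme.Hom.comp_preimage]; exact h'.trans ((XAmap x p'').preimage_mono h)) :=
    fun _ _ => Scheme.Hom.appLE_comp_appLE _ _ _ _ _ _ _
  exact (ConcreteCategory.congr_hom (e1 _ _) z).trans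
    (Groth.L14.DefLift.appLE_congr_hom (XAmap_comp x q p'').symm _ _ z)

theorem π_sec (U : X.affineOpens) (a : Γ(X, U.1)) :
    (π x q U).hom (sec x B U.1 a) = sec x B'' U.1 a := by
  have e1 : ∀ h h', (pr x B).appLE U.1 (vOf (trivXA (x := x) B) U.1) h ≫
      (XAmap x q).appLE _ (vOf (trivXA (x := x) B'') U.1) h' =
      (XAmap x q ≫ pr x B).appLE _ _ (by
        rw [Scheme.Hom.comp_preimage]; exact h'.trans ((XAmap x q).preimage_mono h)) :=
    fun _ _ => Scheme.Hom.appLE_comp_appLE _ _ _ _ _ _ _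
  exact (ConcreteCategory.congr_hom (e1 _ _) a).trans
    (Groth.L14.DefLift.appLE_congr_hom (XAmap_fst x q) _ _ a)

variable {q}

theorem π_mem_pid (hq : q ≫ p'' = p) {U : X.affineOpens} {z : R (trivXA (x := x) B) U.1}
    (hz : z ∈ pid x p I U) : (π x q U).hom z ∈ pid x p'' I U := by
  rw [pid, Ideal.mem_comap, π_comp q hq]
  exact hz

theorem π_mem_mP (hq : q ≫ p'' = p) {U : X.affineOpens} {z : R (trivXA (x := x) B) U.1}
    (hz : z ∈ mP x p I U) : (π x q U).hom z ∈ mP x p'' I U := by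
  refine Submodule.mul_induction_on hz (fun a ha w hw => ?_) fun a b ha hb => by rw [map_add]; exact add_mem ha hb
  rw [map_mul]
  refine Ideal.mul_mem_mul ((Groth.L14.LocTriv.red_eq_zero_iff _ U _).1 ?_) (π_mem_pid hq hw)
  rw [(π x q U).red_hom]
  exact (Groth.L14.LocTriv.red_eq_zero_iff _ U a).2 ha

variable (x p p'' I) in
theorem exists_nu (hq : q ≫ p'' = p) : ∃ f : PMod x p I ⟶ PMod x p'' I,
    ∀ (U : X.affineOpens) (s : Γ(PMod x p I, U.1)),
      sect x p'' I U.1 (f.app U.1 s) = (π x q U).hom (sect x p I U.1 s) := by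
  choose g hg using fun (U : X.affineOpens) (s : Γ(PMod x p I, U.1)) =>
    (mem_pid_iff U _).1 (π_mem_pid hq (sect_mem U s))
  let φ : ∀ U : X.Opens, IsAffineOpen U → (Γ(PMod x p I, U) →+ Γ(PMod x p'' I, U)) := fun U hU =>
    AddMonoidHom.mk' (g ⟨U, hU⟩) fun a b => sect_injective U (by
      rw [map_add (sect x p'' I U), hg ⟨U, hU⟩, hg ⟨U, hU⟩, hg ⟨U, hU⟩, map_add, map_add])
  refine Exists.elim (Groth.L16.AffineBC.exists_hom_affine φ ?_ ?_) fun f hf => ?_
  rotate_left 2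
  · exact ⟨f, fun U s => by rw [hf U.1 U.2]; exact hg U s⟩
  · intro U V hU hV h s
    refine sect_injective V ?_
    show sect x p'' I V (g ⟨V, hV⟩ (rs (PMod x p I) h s)) = sect x p'' I V (rs (PMod x p'' I) h (g ⟨U, hU⟩ s))
    rw [hg ⟨V, hV⟩, sect_res, sect_res, hg ⟨U, hU⟩]
    exact (res_π x q (U := ⟨U, hU⟩) (U' := ⟨V, hV⟩) h _).symm
  · intro U hU a s
    refine sect_injective U ?_
    show sect x p'' I U (g ⟨U, hU⟩ (a • s)) = sect x p'' I U (a • g ⟨U, hU⟩ s)
    rw [hg ⟨U, hU⟩, sect_smul, sect_smul, hg ⟨U, hU⟩, map_mul]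
    exact congrArg (· * _) (π_sec q ⟨U, hU⟩ a)

variable (x p p'' I) in
/-- The map of preimage ideals. -/
def nu (hq : q ≫ p'' = p) : PMod x p I ⟶ PMod x p'' I := (exists_nu x p p'' I hq).choose

theorem nu_spec (hq : q ≫ p'' = p) (U : X.affineOpens) (s : Γ(PMod x p I, U.1)) :
    sect x p'' I U.1 ((nu x p p'' I hq).app U.1 s) = (π x q U).hom (sect x p I U.1 s) :=
  (exists_nu x p p'' I hq).choose_spec U s

theorem nu_redM (hq : q ≫ p'' = p) : nu x p p'' I hq ≫ redM x p'' I = redM x p I :=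
  Groth.L16.AffineBC.hom_ext_affine _ _ fun U hU s => idealSect_injective U (by
    show OmegaSh.idealSect I₀ U ((redM x p'' I).app U ((nu x p p'' I hq).app U s)) = _
    rw [redM_spec ⟨U, hU⟩, redM_spec ⟨U, hU⟩, nu_spec hq ⟨U, hU⟩]
    exact (π x q ⟨U, hU⟩).red_hom _)

/-- The map of kernels. -/
def nuK (hq : q ≫ p'' = p) : kernel (redM x p I) ⟶ kernel (redM x p'' I) :=
  kernel.lift _ (kernel.ι _ ≫ nu x p p'' I hq) (by rw [Category.assoc, nu_redM, kernel.condition])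

theorem nuK_ι (hq : q ≫ p'' = p) :
    nuK (x := x) (I := I) hq ≫ kernel.ι (redM x p'' I) = kernel.ι (redM x p I) ≫ nu x p p'' I hq :=
  kernel.lift_ι _ _ _

theorem SGen.π_sum_push (G : SGen p) (G'' : SGen p'') (M : Fin G.S.n → Fin G''.S.n → k)
    (hM : ∀ l, q (G.S.e l) = ∑ l', M l l' • G''.S.e l') (U : X.affineOpens) (r : Fin G.S.n → Γ(X, U.1)) :
    (π x q U).hom (G.sum x U r) = G''.sum x U fun l' => ∑ l, cU x U.1 (M l l') * r l := by
  let S₂ : (Fin G''.S.n → Γ(X, U.1)) →+ R (trivXA (x := x) B'') U.1 :=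
    AddMonoidHom.mk' (fun b => G''.sum x U b) (G''.S.sum_add _ U)
  rw [show (fun l' => ∑ l, cU x U.1 (M l l') * r l) = ∑ l, (fun l' => cU x U.1 (M l l') * r l) from
    funext fun l' => by rw [Finset.sum_apply]]
  show _ = S₂ _
  rw [map_sum S₂, SGen.sum, SocBasis.sum, map_sum]
  refine Finset.sum_congr rfl fun l _ => ?_
  obtain ⟨w, hw⟩ := Groth.L14.LocTriv.red_surjective (trivXA (x := x) B) U (r l)
  rw [← hw, ← mul_eq_jMul _ U (G.S.kill l), map_mul, (π x q U).hom_rB, hM, map_sum, Finset.sum_mul]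
  show _ = G''.sum x U _
  rw [SGen.sum, SocBasis.sum]
  refine Finset.sum_congr rfl fun l' _ => ?_
  rw [Algebra.smul_def, map_mul, mul_comm (rB _ U.1 (algebraMap k B'' _)), mul_assoc, mul_eq_jMul _ U (G''.S.kill l'),
    map_mul, (π x q U).red_hom, Groth.L14.LocTriv.red_rB, AlgHom.commutes]
  rfl

theorem SGen.mu_natural (G : SGen p) (G'' : SGen p'') (hq : q ≫ p'' = p) (M : Fin G.S.n → Fin G''.S.n → k)
    (hM : ∀ l, q (G.S.e l) = ∑ l', M l l' • G''.S.e l') (l' : Fin G''.S.n) :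
    globalEquiv _ _ (nuK (x := x) (I := I) hq ≫ G''.mu x I l') =
      ∑ l, cU x ⊤ (M l l') • globalEquiv _ _ (G.mu x I l) := by
  let φ := (globalEquiv (kernel (redM x p I)) (ClSub.quotMod I₀)).symm
    (∑ l, cU x ⊤ (M l l') • globalEquiv _ _ (G.mu x I l))
  suffices e : nuK (x := x) (I := I) hq ≫ G''.mu x I l' = φ by
    rw [e]
    exact AddEquiv.apply_symm_apply _ _
  refine Groth.L16.AffineBC.hom_ext_affine _ _ fun U hU m => ?_
  obtain ⟨r, hr, er⟩ := G.mu_spec (I := I) ⟨U, hU⟩ m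
  have hv : G''.IsVal ⟨U, hU⟩ ((kernel.ι (redM x p'' I)).app U ((nuK (x := x) (I := I) hq).app U m))
      (fun j => ∑ l, toY U (cU x U (M l j)) * (show Γ(I₀.subscheme, I₀.subschemeι ⁻¹ᵁ U) from (G.mu x I l).app U m)) := by
    refine ⟨fun j => ∑ l, cU x U (M l j) * r l, ?_, fun j => ?_⟩
    · rw [show (kernel.ι (redM x p'' I)).app U ((nuK (x := x) (I := I) hq).app U m) =
        (nu x p p'' I hq).app U ((kernel.ι (redM x p I)).app U m) from congr($(nuK_ι (x := x) (I := I) hq).app U m),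
        nu_spec hq ⟨U, hU⟩, ← G.π_sum_push G'' M hM ⟨U, hU⟩ r, ← map_sub]
      exact π_mem_mP hq hr
    · rw [map_sum]
      exact Finset.sum_congr rfl fun l _ => (map_mul _ _ _).trans (congrArg _ (er l))
  refine (G''.mu_eq ⟨U, hU⟩ _ hv l').trans ?_
  show _ = ev (secEquiv ⊤ (∑ l, cU x ⊤ (M l l') • globalEquiv _ _ (G.mu x I l))) (le_top : U ≤ ⊤) m
  rw [map_sum, show ev (∑ l, secEquiv ⊤ (cU x ⊤ (M l l') • globalEquiv _ _ (G.mu x I l))) (le_top : U ≤ ⊤) m =
    ∑ l, ev (secEquiv ⊤ (cU x ⊤ (M l l') • globalEquiv _ _ (G.mu x I l))) (le_top : U ≤ ⊤) m from by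
      exact map_sum (AddMonoidHom.mk' (fun φ : Sec (kernel (redM x p I)) (ClSub.quotMod I₀) ⊤ =>
        ev φ (le_top : U ≤ ⊤) m) fun _ _ => rfl) _ _]
  refine Finset.sum_congr rfl fun l _ => ?_
  rw [map_smul, ev_smulSec, Groth.L14.LocTriv.ro_cU]
  rfl

end Groth.L14.LocHilbLift
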