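import Groth.Agent.L14.LocHilb.Lift.Obs.OfPsi

/-! # A lift gives extensions of all obstruction homomorphisms -/

set_option autoImplicit false
set_option linter.style.haveILetI false
set_option linter.unusedSectionVars false
set_option backward.isDefEq.respectTransparency.types false
set_option backward.isDefEq.respectTransparency false

universe u

open CategoryTheory CategoryTheory.Limits AlgebraicGeometry TopologicalSpace Opposite ArtFun ArtFun.Art

noncomputable section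

namespace Groth.L14.LocHilbLift

open Groth.L18.Frame (rs ro rs_rs rs_smul ro_ro ro_self)
open Groth.L14.LocTriv (R rB red res vOf SocBasis)
open Groth.L14.LocHilb (trivXA)

variable {k : Type u} [Field k] {B A : Art k k} {X : Scheme.{u}} {x : X ⟶ specPt k} {I₀ : X.IdealSheafData}
  {p : B ⟶ A}

theorem map_IA (J : (localHilb X x I₀).obj B) (I : (localHilb X x I₀).obj A) (e : (localHilb X x I₀).map p J = I)
    (U : X.affineOpens) : (IA x J U).map (π x p U).hom = IA x I U := by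
  have e' : J.1.comap (XAmap x p) = I.1 := congrArg Subtype.val e
  rw [IA, IA, ← e', Groth.L22.Ideals.comap_ideal (XAmap x p) J.1 ⟨_, Groth.L14.LocTriv.isAffineOpen_vOf _ U⟩
    ⟨_, Groth.L14.LocTriv.isAffineOpen_vOf _ U⟩ (Groth.L14.DefLift.i_le_of_le (trivXA (x := x) A) (by
      rw [Groth.L14.LocTriv.preimage_vOf, ← Scheme.Hom.comp_preimage,
        show (trivXA (x := x) A).i ≫ XAmap x p = (trivXA (x := x) B).i from XAincl_XAmap x p,
        Groth.L14.LocTriv.preimage_vOf]))]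
  rfl

theorem SGen.sum_const_mul (G : SGen p) (U : X.affineOpens) (a : Γ(X, U.1)) (r : Fin G.S.n → Γ(X, U.1)) :
    G.sum x U (fun l => a * r l) = sec x B U.1 a * G.sum x U r := by
  rw [SGen.sum, SGen.sum, G.S.mul_sum, red_sec]

theorem exists_psi_of_lift (G : SGen p) (J : (localHilb X x I₀).obj B) (I : (localHilb X x I₀).obj A)
    (e : (localHilb X x I₀).map p J = I) (l : Fin G.S.n) :
    ∃ ψ : PMod x p I ⟶ ClSub.quotMod I₀, kernel.ι (redM x p I) ≫ ψ = G.mu x I l ∧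
      ∀ (U : X.affineOpens) (s : Γ(PMod x p I, U.1)) (b : Fin G.S.n → Γ(X, U.1)),
        sect x p I U.1 s - G.sum x U b ∈ IA x J U → val ψ U.1 s = toY U.1 (b l) := by
  let L : ∀ U : X.affineOpens, SLift G x I U := fun U =>
    SLift.ofFlat G I (IA x J U) (map_IA J I e U) (flat_IA x J U)
  choose r hr using fun (U : X.affineOpens) (s : Γ(PMod x p I, U.1)) => (L U).exists_sub _ (sect_mem U s)
  have hwd : ∀ (U : X.affineOpens) (s : Γ(PMod x p I, U.1)) r', sect x p I U.1 s - G.sum x U r' ∈ IA x J U →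
      toY (I₀ := I₀) U.1 (r U s l) = toY U.1 (r' l) := by
    intro U s r' h
    rw [← sub_eq_zero, ← map_sub]
    refine (toY_eq_zero_iff U _).2 ((L U).sum_mem (r U s - r') ?_ l)
    have := sub_mem h (hr U s)
    rwa [sub_sub_sub_cancel_left, SGen.sum, SGen.sum, ← G.S.sum_sub] at this
  let φ : ∀ U : X.Opens, IsAffineOpen U → (Γ(PMod x p I, U) →+ Γ(ClSub.quotMod I₀, U)) := fun U hU =>
    AddMonoidHom.mk' (fun s => (show Γ(ClSub.quotMod I₀, U) from toY (I₀ := I₀) U (r ⟨U, hU⟩ s l))) fun s s' => by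
      show toY U (r ⟨U, hU⟩ (s + s') l) = toY U (r ⟨U, hU⟩ s l) + toY U (r ⟨U, hU⟩ s' l)
      refine (hwd ⟨U, hU⟩ (s + s') (r ⟨U, hU⟩ s + r ⟨U, hU⟩ s') ?_).trans (by rw [Pi.add_apply, map_add])
      rw [map_add, SGen.sum, G.S.sum_add, add_sub_add_comm]
      exact add_mem (hr ⟨U, hU⟩ s) (hr ⟨U, hU⟩ s')
  refine Exists.elim (Groth.L16.AffineBC.exists_hom_affine φ ?_ ?_) fun f hf => ?_
  rotate_left 2
  · refine ⟨f, Groth.L16.AffineBC.hom_ext_affine _ _ fun U hU m => ?_, fun U s b h => by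
      show f.app U.1 s = _
      rw [hf U.1 U.2]
      exact hwd U s b h⟩
    show f.app U ((kernel.ι (redM x p I)).app U m) = _
    rw [hf U hU]
    obtain ⟨r₁, hr₁, e₁⟩ := G.mu_spec (I := I) ⟨U, hU⟩ m
    exact (hwd ⟨U, hU⟩ _ r₁ ((L ⟨U, hU⟩).mP_le hr₁)).trans (e₁ l)
  · intro U V hU hV h s
    show toY V (r ⟨V, hV⟩ (rs (PMod x p I) h s) l) =
      ro (Scheme.Hom.preimage_mono I₀.subschemeι h) (toY U (r ⟨U, hU⟩ s l))
    refine (hwd ⟨V, hV⟩ _ (fun j => ro h (r ⟨U, hU⟩ s j)) ?_).trans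
      (ConcreteCategory.congr_hom (I₀.subschemeι.naturality (homOfLE h).op) _)
    rw [sect_res, SGen.sum, ← G.S.res_sum (trivXA (x := x) B) ⟨U, hU⟩ (U' := ⟨V, hV⟩) h, ← map_sub]
    exact res_mem_IA x J (U := ⟨U, hU⟩) (U' := ⟨V, hV⟩) h (hr ⟨U, hU⟩ s)
  · intro U hU a s
    show toY U (r ⟨U, hU⟩ (a • s) l) = toY U a * toY U (r ⟨U, hU⟩ s l)
    refine (hwd ⟨U, hU⟩ (a • s) (fun j => a * r ⟨U, hU⟩ s j) ?_).trans (map_mul _ _ _)
    rw [G.sum_const_mul ⟨U, hU⟩ a (r ⟨U, hU⟩ s), sect_smul, ← mul_sub]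
    exact Ideal.mul_mem_left _ _ (hr ⟨U, hU⟩ s)

theorem exists_lift_iff (G : SGen p) (I : (localHilb X x I₀).obj A) :
    (∃ J, (localHilb X x I₀).map p J = I) ↔
      ∀ l, ∃ ψ : PMod x p I ⟶ ClSub.quotMod I₀, kernel.ι (redM x p I) ≫ ψ = G.mu x I l := by
  refine ⟨fun ⟨J, e⟩ l => (exists_psi_of_lift G J I e l).imp fun _ h => h.1, fun h => ?_⟩
  choose ψ hψ using h
  exact SGen.exists_map_eq_of_psi G I ψ hψ

end Groth.L14.LocHilbLift
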