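import Groth.Agent.L14.LocHilb.Lift.Obs.Local

/-! # Extensions of all obstruction homomorphisms give a lift -/

set_option autoImplicit false
set_option linter.style.haveILetI false
set_option linter.unusedSectionVars false
set_option backward.isDefEq.respectTransparency.types false
set_option backward.isDefEq.respectTransparency false

universe u

open CategoryTheory CategoryTheory.Limits AlgebraicGeometry TopologicalSpace Opposite ArtFun ArtFun.Art

noncomputable section

namespace Groth.L14.LocHilbLift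

open Groth.L18.Frame (rs ro rs_rs rs_smul ro_ro ro_self)
open Groth.L14.LocTriv (R rB red res vOf SocBasis mul_eq_jMul)
open Groth.L14.LocHilb (trivXA)

variable {k : Type u} [Field k] {B A : Art k k} {X : Scheme.{u}} {x : X ⟶ specPt k} {I₀ : X.IdealSheafData}
  {p : B ⟶ A} {G : SGen p} {I : (localHilb X x I₀).obj A}
  {ψ : Fin G.S.n → (PMod x p I ⟶ ClSub.quotMod I₀)} (hψ : ∀ l, kernel.ι (redM x p I) ≫ ψ l = G.mu x I l)

include hψ in
theorem SGen.val_eq_of_isVal {U : X.affineOpens} (s : Γ(PMod x p I, U.1))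
    (hs : red (trivXA (x := x) B) U.1 (sect x p I U.1 s) = 0) {b} (h : G.IsVal U s b) (l : Fin G.S.n) :
    val (ψ l) U.1 s = b l := by
  obtain ⟨m, rfl⟩ : ∃ m, (kernel.ι (redM x p I)).app U.1 m = s :=
    ⟨_, _root_.OmegaSh.ι_kerLift (redM x p I) U.1 s ((redM_eq_zero_iff U s).2 hs)⟩
  refine Eq.trans ?_ (G.mu_eq U m h l)
  exact congr($(hψ l).app U.1 m)

include hψ in
theorem SGen.val_mul (U : X.affineOpens) (w : R (trivXA (x := x) B) U.1) (s s' : Γ(PMod x p I, U.1))
    (h : sect x p I U.1 s' = w * sect x p I U.1 s) (l : Fin G.S.n) :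
    val (ψ l) U.1 s' = toY U.1 (red (trivXA (x := x) B) U.1 w) * val (ψ l) U.1 s := by
  let a := red (trivXA (x := x) B) U.1 w
  have hsect : sect x p I U.1 (s' - a • s) = (w - sec x B U.1 a) * sect x p I U.1 s := by
    rw [map_sub, h, sect_smul, sub_mul]
  have hw : red (trivXA (x := x) B) U.1 (w - sec x B U.1 a) = 0 := by
    rw [map_sub, red_sec, sub_self]
  have h0 : val (ψ l) U.1 (s' - a • s) = 0 := by
    refine SGen.val_eq_of_isVal hψ (b := 0) _ (by rw [hsect, map_mul, hw, zero_mul]) ⟨0, ?_, fun j => map_zero _⟩ l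
    rw [SGen.sum, G.S.sum_zero, sub_zero, hsect]
    exact Ideal.mul_mem_mul ((Groth.L14.LocTriv.red_eq_zero_iff _ U _).1 hw) (sect_mem U s)
  rw [show s' = (s' - a • s) + a • s from (sub_add_cancel _ _).symm, val_add, h0, zero_add, val_smul]

include hψ in
theorem SGen.val_sum (U : X.affineOpens) (b : Fin G.S.n → Γ(X, U.1)) (s : Γ(PMod x p I, U.1))
    (h : sect x p I U.1 s = G.sum x U b) (l : Fin G.S.n) : val (ψ l) U.1 s = toY U.1 (b l) := by
  refine SGen.val_eq_of_isVal hψ (b := fun j => toY U.1 (b j)) s ?_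
    ⟨b, by rw [h, sub_self]; exact zero_mem _, fun j => rfl⟩ l
  rw [h, SGen.sum, G.S.red_sum]

/-- The lifted ideal on an affine open of `X`. -/
def SGen.idealU (U : X.affineOpens) : Ideal (R (trivXA (x := x) B) U.1) where
  carrier := {z | ∃ s, sect x p I U.1 s = z ∧ ∀ l, val (ψ l) U.1 s = 0}
  add_mem' := by
    rintro _ _ ⟨s, rfl, hs⟩ ⟨s', rfl, hs'⟩
    exact ⟨s + s', map_add _ s s', fun l => by rw [val_add, hs, hs', add_zero]⟩
  zero_mem' := ⟨0, map_zero _, fun l => map_zero ((ψ l).app U.1).hom⟩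
  smul_mem' := by
    rintro w _ ⟨s, rfl, hs⟩
    obtain ⟨s', hs'⟩ := (mem_pid_iff U _).1 (Ideal.mul_mem_left _ w (sect_mem U s))
    exact ⟨s', hs', fun l => by rw [SGen.val_mul hψ U w s s' hs', hs, mul_zero]⟩

theorem SGen.idealU_le (U : X.affineOpens) : SGen.idealU hψ U ≤ pid x p I U := by
  rintro _ ⟨s, rfl, -⟩
  exact sect_mem U s

theorem SGen.exists_sub_mem (U : X.affineOpens) {z : R (trivXA (x := x) B) U.1} (hz : z ∈ pid x p I U) :
    ∃ b, z - G.sum x U b ∈ SGen.idealU hψ U := by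
  obtain ⟨s, rfl⟩ := (mem_pid_iff U z).1 hz
  choose a ha using fun l => Scheme.Hom.app_surjective I₀.subschemeι U.1 U.2 (val (ψ l) U.1 s)
  obtain ⟨s', hs'⟩ := (mem_pid_iff (p := p) (I := I) U _).1 (G.sum_mem (I := I) a)
  refine ⟨a, s - s', by rw [map_sub, hs'], fun l => ?_⟩
  have h1 : val (ψ l) U.1 (s - s') + val (ψ l) U.1 s' = val (ψ l) U.1 s := by rw [← val_add, sub_add_cancel]
  rw [SGen.val_sum hψ U a s' hs' l, ha] at h1
  exact add_eq_right.1 h1

theorem SGen.sum_mem_idealU_iff (U : X.affineOpens) (b : Fin G.S.n → Γ(X, U.1)) :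
    G.sum x U b ∈ SGen.idealU hψ U ↔ ∀ l, b l ∈ I₀.ideal U := by
  simp only [← toY_eq_zero_iff U]
  constructor
  · rintro ⟨s, hs, h0⟩ l
    exact (SGen.val_sum hψ U b s hs l).symm.trans (h0 l)
  · intro h
    obtain ⟨s, hs⟩ := (mem_pid_iff (p := p) (I := I) U _).1 (G.sum_mem (I := I) b)
    exact ⟨s, hs, fun l => (SGen.val_sum hψ U b s hs l).trans (h l)⟩

/-- The lifted ideal sheaf. -/
def SGen.lift : (trivXA (x := x) B).total.IdealSheafData where
  ideal V := (SGen.idealU hψ (below V)).comap (tr V)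
  map_ideal_basicOpen V f := by
    let W : (trivXA (x := x) B).total.affineOpens := ⟨(trivXA (x := x) B).total.basicOpen f, V.2.basicOpen f⟩
    have hle : W.1 ≤ V.1 := (trivXA (x := x) B).total.basicOpen_le f
    have hb : (below W).1 ≤ (below V).1 := Scheme.Hom.preimage_mono _ hle
    have hnat : ∀ z, tr W (ro hle z) = res (trivXA (x := x) B) hb (tr V z) := fun z =>
      (ro_ro _ _ z).trans (ro_ro _ _ z).symm
    refine le_antisymm (Ideal.map_le_iff_le_comap.mpr fun z hz => ?_) fun z hz => ?_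
    · obtain ⟨s, hs, h0⟩ := hz
      show tr W (ro hle z) ∈ SGen.idealU hψ (below W)
      exact ⟨rs (PMod x p I) hb s, by rw [sect_res, hs, hnat], fun l => (by rw [val_res, h0]; exact map_zero _)⟩
    · let g : Γ(I₀.subscheme, I₀.subschemeι ⁻¹ᵁ (below V).1) :=
        toY (below V).1 (red (trivXA (x := x) B) (below V).1 (tr V f))
      let hle' := Scheme.Hom.preimage_mono I₀.subschemeι hb
      letI := (I₀.subscheme.presheaf.map (homOfLE hle').op).hom.toAlgebra
      haveI : IsLocalization.Away g Γ(I₀.subscheme, I₀.subschemeι ⁻¹ᵁ (below W).1) := by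
        refine ((below V).2.preimage I₀.subschemeι).isLocalization_of_eq_basicOpen g (homOfLE hle') ?_
        have h1 : red (trivXA (x := x) B) (below V).1 (tr V f) = (trivXA (x := x) B).i.app V.1 f := by
          rw [Scheme.Hom.app_eq_appLE]
          exact ConcreteCategory.congr_hom (Scheme.Hom.map_appLE (trivXA (x := x) B).i _ _) f
        show I₀.subschemeι ⁻¹ᵁ ((trivXA (x := x) B).i ⁻¹ᵁ (trivXA (x := x) B).total.basicOpen f) =
          I₀.subscheme.basicOpen (toY (below V).1 (red (trivXA (x := x) B) (below V).1 (tr V f)))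
        rw [h1, Scheme.preimage_basicOpen, Scheme.preimage_basicOpen]
      obtain ⟨s, hs, h0⟩ : ∃ s : Γ(PMod x p I, (below W).1),
          sect x p I (below W).1 s = tr W z ∧ ∀ l, val (ψ l) (below W).1 s = 0 := hz
      have hP : z ∈ (PI x p I).ideal W := by
        have h2 : tr W z ∈ pid x p I (below W) := hs ▸ sect_mem (below W) s
        rw [← PI_ideal x p I (below W)] at h2
        have h3 := (PI x p I).ideal_le_comap_ideal (U := W)
          (V := ⟨vOf (trivXA (x := x) B) (below W).1, Groth.L14.LocTriv.isAffineOpen_vOf _ _⟩)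
          (show W.1 ≤ vOf (trivXA (x := x) B) (below W).1 from le_vOf_below W) h2
        rw [Ideal.mem_comap] at h3
        exact ((ro_ro (vOf_below_le W) (le_vOf_below W) z).trans (ro_self le_rfl z)) ▸ h3
      rw [← (PI x p I).map_ideal (U := W) (V := V) hle] at hP
      letI := ((trivXA (x := x) B).total.presheaf.map (homOfLE hle).op).hom.toAlgebra
      haveI := V.2.isLocalization_basicOpen f
      obtain ⟨⟨⟨z₁, hz₁⟩, ⟨_, n, rfl⟩⟩, hn⟩ :=
        (IsLocalization.mem_map_algebraMap_iff (Submonoid.powers f) _).1 hP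
      replace hn : z * ro hle (f ^ n) = ro hle z₁ := hn
      have hz₁' : tr V z₁ ∈ pid x p I (below V) := by
        rw [← PI_ideal x p I (below V)]
        exact (PI x p I).ideal_le_comap_ideal
          (U := ⟨vOf (trivXA (x := x) B) (below V).1, Groth.L14.LocTriv.isAffineOpen_vOf _ _⟩) (V := V)
          (show vOf (trivXA (x := x) B) (below V).1 ≤ V.1 from vOf_below_le V) hz₁
      obtain ⟨s₁, hs₁⟩ := (mem_pid_iff (below V) _).1 hz₁'
      have h4 : sect x p I (below W).1 (rs (PMod x p I) hb s₁) = tr W (ro hle (f ^ n)) * sect x p I (below W).1 s := by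
        rw [sect_res, hs₁, hs, ← hnat, ← hn, map_mul, mul_comm]
      have h5 : ∀ l, ∃ m : ℕ, g ^ m * val (ψ l) (below V).1 s₁ = 0 := fun l => by
        have h5 : ro hle' (val (ψ l) (below V).1 s₁) = 0 := by
          rw [← val_res (ψ l) hb, SGen.val_mul hψ (below W) _ s _ h4, h0, mul_zero]
        obtain ⟨⟨_, m, rfl⟩, hm⟩ := (IsLocalization.map_eq_zero_iff (Submonoid.powers g) _ _).mp h5
        exact ⟨m, hm⟩
      choose ms hms using h5
      obtain ⟨m, hm⟩ : ∃ m : ℕ, ∀ l, g ^ m * val (ψ l) (below V).1 s₁ = 0 := ⟨∑ j, ms j, fun l => by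
        rw [← Nat.sub_add_cancel (Finset.single_le_sum (fun j _ => Nat.zero_le (ms j)) (Finset.mem_univ l) :
          ms l ≤ ∑ j, ms j), pow_add, mul_assoc, hms, mul_zero]⟩
      obtain ⟨s₂, hs₂⟩ := (mem_pid_iff (below V) _).1
        (Ideal.mul_mem_left _ (tr V (f ^ m)) (sect_mem (p := p) (I := I) (below V) s₁))
      have hmem : f ^ m * z₁ ∈ (SGen.idealU hψ (below V)).comap (tr V) := by
        refine ⟨s₂, by rw [hs₂, hs₁, ← map_mul], fun l => ?_⟩
        rw [SGen.val_mul hψ (below V) _ s₁ s₂ hs₂, map_pow, map_pow, map_pow]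
        exact hm l
      have h6 := Ideal.mem_map_of_mem ((trivXA (x := x) B).total.presheaf.map (homOfLE hle).op).hom hmem
      rw [map_mul] at h6
      have hu : ∀ j : ℕ, IsUnit (ro hle (f ^ j)) := fun j => by
        rw [show ro hle (f ^ j) = ro hle f ^ j from map_pow _ _ _]
        exact ((trivXA (x := x) B).total.toRingedSpace.isUnit_res_basicOpen f).pow j
      refine (Ideal.unit_mul_mem_iff_mem _ (hu n)).mp ?_
      rw [mul_comm, hn]
      exact (Ideal.unit_mul_mem_iff_mem _ (hu m)).mp h6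

theorem SGen.flat_idealU (U : X.affineOpens) :
    ((Ideal.Quotient.mk (SGen.idealU hψ U)).comp (rB (trivXA (x := x) B) U.1)).Flat := by
  let S := R (trivXA (x := x) A) U.1
  let T := R (trivXA (x := x) B) U.1
  letI : Algebra B T := (rB (trivXA (x := x) B) U.1).toAlgebra
  letI : Algebra A S := (rB (trivXA (x := x) A) U.1).toAlgebra
  letI : Algebra B S := ((rB (trivXA (x := x) A) U.1).comp p.toAlgHom.toRingHom).toAlgebra
  haveI : Module.Flat A (S ⧸ IA x I U) := flat_IA x I U
  haveI : Module.Flat A (TensorProduct A A (S ⧸ IA x I U)) := Module.Flat.of_linearEquiv (TensorProduct.lid A _)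
  haveI : Module.Free A (S ⧸ IA x I U) := Groth.L01.NilDescent.free_of_flat_baseChange
    (IsLocalRing.maximalIdeal A) (Groth.L12.isNilpotent_maximalIdeal A) A Function.injective_id _
  let πA : T →ₐ[B] S := { (π x p U).hom with commutes' := fun b => (π x p U).hom_rB b }
  let g : (T ⧸ SGen.idealU hψ U) →ₐ[B] S ⧸ IA x I U :=
    Ideal.Quotient.liftₐ (SGen.idealU hψ U) ((Ideal.Quotient.mkₐ B (IA x I U)).comp πA)
      fun z hz => Ideal.Quotient.eq_zero_iff_mem.2 (SGen.idealU_le hψ U hz)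
  have hfree : Module.Free B (T ⧸ SGen.idealU hψ U) := by
    refine free_of_semismall G.S p G.surj G.app_e G.ker_le ?_ g.toLinearMap ?_ ?_ ?_
    · intro b y
      rw [Algebra.smul_def, Algebra.smul_def]
      rfl
    · intro y
      obtain ⟨y, rfl⟩ := Ideal.Quotient.mk_surjective y
      obtain ⟨z, rfl⟩ := π_surjective x p G.surj U y
      exact ⟨Ideal.Quotient.mk _ z, rfl⟩
    · intro z hz
      obtain ⟨z, rfl⟩ := Ideal.Quotient.mk_surjective z
      obtain ⟨b, hb⟩ := SGen.exists_sub_mem hψ U (z := z)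
        (Ideal.mem_comap.2 ((Ideal.Quotient.eq_zero_iff_mem (I := IA x I U)).1 hz))
      choose r hr using fun l => Groth.L14.LocTriv.red_surjective (trivXA (x := x) B) U (b l)
      refine ⟨fun l => Ideal.Quotient.mk _ (r l), ?_⟩
      refine (Ideal.Quotient.eq.2 hb).trans ?_
      rw [SGen.sum, SocBasis.sum, map_sum]
      refine Finset.sum_congr rfl fun l _ => ?_
      rw [← hr l, ← mul_eq_jMul _ U (G.S.kill l), map_mul, Algebra.smul_def]
      rfl
    · intro z hz j
      choose r hr using fun l => Ideal.Quotient.mk_surjective (z l)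
      have hz' : Ideal.Quotient.mk (SGen.idealU hψ U) (G.sum x U fun l => red (trivXA (x := x) B) U.1 (r l)) = 0 := by
        rw [← hz, SGen.sum, SocBasis.sum, map_sum]
        refine Finset.sum_congr rfl fun l _ => ?_
        rw [← mul_eq_jMul _ U (G.S.kill l), map_mul, Algebra.smul_def, hr]
        rfl
      obtain ⟨w, hw, e⟩ := exists_red_eq' (p := p) (I := I) (U := U) G.surj
        ((SGen.sum_mem_idealU_iff hψ U _).1 (Ideal.Quotient.eq_zero_iff_mem.1 hz') j)
      obtain ⟨b, hb⟩ := SGen.exists_sub_mem hψ U hw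
      rw [← hr j, show Ideal.Quotient.mk (SGen.idealU hψ U) (r j) = Ideal.Quotient.mk (SGen.idealU hψ U)
          ((r j - w) + G.sum x U b) by
        rw [Ideal.Quotient.eq]; convert hb using 1; ring]
      rw [Ideal.smul_top_eq_map, Submodule.restrictScalars_mem]
      show _ ∈ (IsLocalRing.maximalIdeal B).map
        ((Ideal.Quotient.mk (SGen.idealU hψ U)).comp (rB (trivXA (x := x) B) U.1))
      rw [← Ideal.map_map]
      refine Ideal.mem_map_of_mem _ ((Groth.L14.LocTriv.red_eq_zero_iff _ U _).1 ?_)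
      rw [map_add, map_sub, e, sub_self, zero_add, SGen.sum, G.S.red_sum]
  exact (inferInstance : Module.Flat B (T ⧸ SGen.idealU hψ U))

theorem SGen.flatOver_lift : FlatOver X x B (SGen.lift hψ) := by
  unfold FlatOver
  refine IsZariskiLocalAtSource.of_openCover (P := @Flat) (SGen.lift hψ).subschemeCover.openCover fun V => ?_
  show Flat ((SGen.lift hψ).subschemeCover.f V ≫ (SGen.lift hψ).subschemeι ≫ XApr x B)
  rw [← Category.assoc, Scheme.IdealSheafData.subschemeCover_map_subschemeι]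
  let J : Ideal Γ((trivXA (x := x) B).total, V.1) := (SGen.lift hψ).ideal V
  let φ : B →+* _ ⧸ J := (Ideal.Quotient.mk J).comp (Groth.L14.DefLift.baseS (trivXA (x := x) B) V.1)
  have e : Spec.map (CommRingCat.ofHom φ) =
      Spec.map (CommRingCat.ofHom (Ideal.Quotient.mk J)) ≫ V.2.fromSpec ≫ XApr x B := by
    rw [← show Spec.map (CommRingCat.ofHom (Groth.L14.DefLift.baseS (trivXA (x := x) B) V.1)) =
      V.2.fromSpec ≫ XApr x B from Groth.L14.DefLift.specMap_baseS (trivXA (x := x) B) V.2, ← Spec.map_comp]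
    rfl
  let q : (_ ⧸ J) →+* (R (trivXA (x := x) B) (below V).1 ⧸ SGen.idealU hψ (below V)) :=
    Ideal.quotientMap _ (tr V) le_rfl
  have hq : Function.Bijective q :=
    ⟨Ideal.quotientMap_injective, Ideal.quotientMap_surjective (tr_bijective V).2⟩
  have hqφ : (RingEquiv.ofBijective q hq).toRingHom.comp φ =
      (Ideal.Quotient.mk (SGen.idealU hψ (below V))).comp (rB (trivXA (x := x) B) (below V).1) := by
    refine RingHom.ext fun b => ?_
    show q (Ideal.Quotient.mk J (Groth.L14.DefLift.baseS (trivXA (x := x) B) V.1 b)) = _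
    rw [Ideal.quotientMap_mk]
    exact congrArg _ (Groth.L14.DefLift.ro_baseS (trivXA (x := x) B) (vOf_below_le V) b)
  have hflat : φ.Flat := by
    have h1 := RingHom.Flat.respectsIso.1 _ (RingEquiv.ofBijective q hq).symm (SGen.flat_idealU hψ (below V))
    rwa [← hqφ, ← RingHom.comp_assoc, RingEquiv.toRingHom_eq_coe, RingEquiv.toRingHom_eq_coe,
      RingEquiv.symm_comp, RingHom.id_comp] at h1
  have := HasRingHomProperty.Spec_iff (P := @Flat) (φ := CommRingCat.ofHom φ) |>.mpr hflat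
  rw [e] at this
  rwa [Category.assoc]

theorem SGen.lift_ideal (U : X.affineOpens) :
    (SGen.lift hψ).ideal ⟨vOf (trivXA (x := x) B) U.1, Groth.L14.LocTriv.isAffineOpen_vOf _ U⟩ = SGen.idealU hψ U := by
  let V : (trivXA (x := x) B).total.affineOpens := ⟨vOf (trivXA (x := x) B) U.1, Groth.L14.LocTriv.isAffineOpen_vOf _ U⟩
  have hb : (below V).1 = U.1 := Groth.L14.LocTriv.preimage_vOf _ U.1
  have hn : ∀ z : R (trivXA (x := x) B) U.1, tr V z = res (trivXA (x := x) B) hb.le z := fun z => rfl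
  refine Ideal.ext fun z => ⟨fun hz => ?_, fun hz => ?_⟩
  · obtain ⟨s, hs, h0⟩ := hz
    refine ⟨rs (PMod x p I) hb.ge s, ?_, fun l => (by rw [val_res, h0]; exact map_zero _)⟩
    rw [sect_res, hs, hn, Groth.L14.LocTriv.res_res, Groth.L14.LocTriv.res_self]
  · obtain ⟨s, hs, h0⟩ := hz
    exact ⟨rs (PMod x p I) hb.le s, by rw [sect_res, hs, hn], fun l => (by rw [val_res, h0]; exact map_zero _)⟩

theorem SGen.comap_lift : (SGen.lift hψ).comap (XAmap x p) = I.1 := by
  refine Scheme.IdealSheafData.ext (funext fun W => ?_)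
  let U : X.affineOpens := ⟨(trivXA (x := x) A).i ⁻¹ᵁ W.1,
    haveI := Groth.L14.DefLift.isClosedImmersion_i (trivXA (x := x) A)
    W.2.preimage (trivXA (x := x) A).i⟩
  have hW : W = ⟨vOf (trivXA (x := x) A) U.1, Groth.L14.LocTriv.isAffineOpen_vOf _ U⟩ :=
    Subtype.ext (Groth.L14.LocTriv.eq_vOf (trivXA (x := x) A) (V := W.1) (U := U.1) rfl)
  rw [hW]
  clear_value U
  clear hW
  rw [Groth.L22.Ideals.comap_ideal (XAmap x p) (SGen.lift hψ) ⟨_, Groth.L14.LocTriv.isAffineOpen_vOf _ U⟩
    ⟨_, Groth.L14.LocTriv.isAffineOpen_vOf _ U⟩ (Groth.L14.DefLift.i_le_of_le (trivXA (x := x) A) (by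
      rw [Groth.L14.LocTriv.preimage_vOf, ← Scheme.Hom.comp_preimage,
        show (trivXA (x := x) A).i ≫ XAmap x p = (trivXA (x := x) B).i from XAincl_XAmap x p,
        Groth.L14.LocTriv.preimage_vOf])), SGen.lift_ideal hψ U]
  show (SGen.idealU hψ U).map (π x p U).hom = IA x I U
  refine le_antisymm (Ideal.map_le_iff_le_comap.2 (SGen.idealU_le hψ U)) fun y hy => ?_
  obtain ⟨z, rfl⟩ := π_surjective x p G.surj U y
  obtain ⟨r, hr⟩ := SGen.exists_sub_mem hψ U (z := z) hy
  have := Ideal.mem_map_of_mem (π x p U).hom hr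
  rwa [map_sub, G.π_sum, sub_zero] at this

theorem SGen.exists_map_eq_of_psi (G : SGen p) (I : (localHilb X x I₀).obj A)
    (ψ : Fin G.S.n → (PMod x p I ⟶ ClSub.quotMod I₀))
    (hψ : ∀ l, kernel.ι (redM x p I) ≫ ψ l = G.mu x I l) :
    ∃ J : (localHilb X x I₀).obj B, (localHilb X x I₀).map p J = I := by
  refine ⟨⟨SGen.lift hψ, SGen.flatOver_lift hψ, ?_⟩, Subtype.ext (SGen.comap_lift hψ)⟩
  rw [← XAincl_XAmap x p, Scheme.IdealSheafData.comap_comp, SGen.comap_lift hψ]
  exact I.2.2

end Groth.L14.LocHilbLift
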