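import Groth.Agent.L14.LocHilb.Lift.Obs.OfLift
import Groth.Agent.L14.LocHilb.Lift.Obs.Cls
import Groth.Agent.L14.LocHilb.Lift.Obs.Natural
import Groth.Agent.L12.Obs

/-! # The obstruction theory of the local Hilbert functor -/

set_option autoImplicit false
set_option linter.style.haveILetI false
set_option linter.unusedSectionVars false
set_option backward.isDefEq.respectTransparency.types false
set_option backward.isDefEq.respectTransparency false

universe u

open CategoryTheory CategoryTheory.Limits AlgebraicGeometry TopologicalSpace Opposite ArtFun ArtFun.Art TensorProduct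

noncomputable section

namespace Groth.L14.LocHilbLift

open Groth.L14.LocTriv (cU)
open Groth.L16.HomSh

variable {k : Type u} [Field k] {X : Scheme.{u}} [X.Over (Spec (CommRingCat.of k))] {I₀ : X.IdealSheafData}
  {B B'' A : Art k k} {p : B ⟶ A} {p'' : B'' ⟶ A}

theorem extData (hp : Function.Surjective p) (I : (localHilb X (X ↘ Spec (CommRingCat.of k)) I₀).obj A) :
    ExtData (kernel.ι (redM (X ↘ Spec (CommRingCat.of k)) p I)) (redM (X ↘ Spec (CommRingCat.of k)) p I) where
  qcoh := inferInstance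
  qcoh'' := inferInstance
  w := kernel.condition _
  surj U := redM_surjective' hp U
  ker U m hm := ⟨_, _root_.OmegaSh.ι_kerLift (redM (X ↘ Spec (CommRingCat.of k)) p I) U.1 m hm⟩

theorem smul_eq_cU_smul {M : X.Modules} {n : ℕ} (c : k) (v : Coh.HH X M n) :
    c • v = (show Coh.Γtop X from cU (X ↘ Spec (CommRingCat.of k)) ⊤ c) • v := by
  refine congrArg (fun r : Coh.Γtop X => r • v) ?_
  show (X ↘ Spec (CommRingCat.of k)).appTop _ = (X ↘ Spec (CommRingCat.of k)).appLE ⊤ ⊤ le_top _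
  exact congr($((Scheme.Hom.appLE_eq_app (X ↘ Spec (CommRingCat.of k)) (U := ⊤)).symm) _)

theorem cls_natural (G : SGen p) (G'' : SGen p'') {q : B ⟶ B''} (hq : q ≫ p'' = p)
    (M : Fin G.S.n → Fin G''.S.n → k) (hM : ∀ l, q (G.S.e l) = ∑ l', M l l' • G''.S.e l')
    {I : (localHilb X (X ↘ Spec (CommRingCat.of k)) I₀).obj A}
    {w : Fin G.S.n → Coh.HH X (homMod (ClSub.idealMod I₀) (ClSub.quotMod I₀)) 1}
    {w'' : Fin G''.S.n → Coh.HH X (homMod (ClSub.idealMod I₀) (ClSub.quotMod I₀)) 1}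
    (hw : ∀ l, IsCls (extData G.surj I) (G.mu _ I l) (w l))
    (hw'' : ∀ l, IsCls (extData G''.surj I) (G''.mu _ I l) (w'' l)) (l' : Fin G''.S.n) :
    w'' l' = ∑ l, M l l' • w l := by
  refine Eq.trans ?_ (Finset.sum_congr rfl fun l _ => (smul_eq_cU_smul (M l l') (w l)).symm)
  exact ((hw'' l').pre _ (nuK hq) (nu_redM hq) (nuK_ι hq)).unique
    (IsCls.sum (fun l => cU (X ↘ Spec (CommRingCat.of k)) ⊤ (M l l')) _ _ hw _ (G.mu_natural G'' hq M hM l'))

theorem exists_isCls_mu (hreg : Mor2.IsRegularClosedImmersion I₀.subschemeι) (G : SGen p)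
    (I : (localHilb X (X ↘ Spec (CommRingCat.of k)) I₀).obj A) :
    ∃ w : Fin G.S.n → Coh.HH X (homMod (ClSub.idealMod I₀) (ClSub.quotMod I₀)) 1,
      ∀ l, IsCls (extData G.surj I) (G.mu _ I l) (w l) := by
  choose w hw using fun l => exists_isCls (extData G.surj I) (G.mu _ I l) fun y => exists_local_extension G I hreg l y
  exact ⟨w, hw⟩

theorem apply_basis {q : B ⟶ B''} (S : Groth.L14.LocTriv.SocBasis B'')
    (b : Module.Basis (Fin S.n) k ↥(RingHom.ker p''.toAlgHom)) (hb : ∀ l, (b l : B'') = S.e l)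
    (j : ↥(RingHom.ker p''.toAlgHom)) : (j : B'') = ∑ l', b.repr j l' • S.e l' := by
  conv_lhs => rw [← b.sum_repr j, Submodule.coe_sum]
  exact Finset.sum_congr rfl fun l _ => by rw [Submodule.coe_smul_of_tower, hb]

set_option maxHeartbeats 1000000 in
/-- The local Hilbert functor of a regularly embedded subscheme has an obstruction theory. -/
theorem hasObsTheory_localHilb (hreg : Mor2.IsRegularClosedImmersion I₀.subschemeι) :
    HasObsTheory (localHilb X (X ↘ Spec (CommRingCat.of k)) I₀)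
      (Coh.HH X (homMod (ClSub.idealMod I₀) (ClSub.quotMod I₀)) 1) := by
  let V := Coh.HH X (homMod (ClSub.idealMod I₀) (ClSub.quotMod I₀)) 1
  let F := localHilb X (X ↘ Spec (CommRingCat.of k)) I₀
  have hdata : ∀ {B A : Art k k} (p : B ⟶ A) (hp : IsSemismallExt p) (u : F.obj A),
      ∃ v : V ⊗[k] ↥(RingHom.ker p.toAlgHom),
        ∀ (G : SGen p) (b : Module.Basis (Fin G.S.n) k ↥(RingHom.ker p.toAlgHom)), (∀ l, (b l : B) = G.S.e l) →
          ∀ w : Fin G.S.n → V, (∀ l, IsCls (extData G.surj u) (G.mu _ u l) (w l)) → v = ∑ l, w l ⊗ₜ b l := by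
    intro B A p hp u
    obtain ⟨S₀, b₀, hS₀, hSp₀, hb₀⟩ := Groth.L14.LocTriv.exists_socBasis p hp
    let G₀ : SGen p := ⟨S₀, hp.1, hS₀, hSp₀⟩
    obtain ⟨w₀, hw₀⟩ := exists_isCls_mu hreg G₀ u
    refine ⟨∑ l, w₀ l ⊗ₜ b₀ l, fun G b hb w hw => ?_⟩
    have e := cls_natural G₀ G (q := 𝟙 B) (Category.id_comp p) (fun l l' => b.repr (b₀ l) l')
      (fun l => (hb₀ l).symm.trans (apply_basis (p'' := p) (q := 𝟙 B) G.S b hb (b₀ l))) hw₀ hw
    simp only [e, TensorProduct.sum_tmul, TensorProduct.smul_tmul]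
    rw [Finset.sum_comm]
    refine Finset.sum_congr rfl fun l _ => ?_
    rw [← TensorProduct.tmul_sum, b.sum_repr]
  choose obs hobs using @hdata
  refine ⟨{ obs := fun p hp u => obs p hp u
            obs_eq_zero_iff := fun {C' C} p hp u => ?_
            obs_quot := fun {C' C} p hp K hK hKJ hq u => ?_ }⟩
  · obtain ⟨S, b, hS, hSp, hb⟩ := Groth.L14.LocTriv.exists_socBasis p hp
    let G : SGen p := ⟨S, hp.1, hS, hSp⟩
    obtain ⟨w, hw⟩ := exists_isCls_mu hreg G u
    rw [hobs p hp u G b hb w hw, exists_lift_iff G u]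
    constructor
    · intro h0 l
      refine (hw l).eq_zero_iff.1 ?_
      have hinj := TensorProduct.sum_tmul_basis_right_eq_zero b (Finsupp.equivFunOnFinite.symm w) (by
        refine (Finsupp.sum_fintype _ (fun i m => m ⊗ₜ[k] b i) fun i => TensorProduct.zero_tmul _ (b i)).trans ?_
        exact h0)
      exact congrArg (fun f : Fin S.n →₀ V => f l) hinj
    · intro h
      refine Finset.sum_eq_zero fun l _ => ?_
      rw [(hw l).eq_zero_iff.2 (h l), TensorProduct.zero_tmul]
  · obtain ⟨S, b, hS, hSp, hb⟩ := Groth.L14.LocTriv.exists_socBasis p hp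
    obtain ⟨S'', b'', hS'', hSp'', hb''⟩ := Groth.L14.LocTriv.exists_socBasis _ hq
    let G : SGen p := ⟨S, hp.1, hS, hSp⟩
    let G'' : SGen (quotFactor hK p hKJ) := ⟨S'', hq.1, hS'', hSp''⟩
    obtain ⟨w, hw⟩ := exists_isCls_mu hreg G u
    obtain ⟨w'', hw''⟩ := exists_isCls_mu hreg G'' u
    let J := (kerToQuot hK p hKJ).restrictScalars k
    have e := cls_natural G G'' (quotMk_quotFactor hK p hKJ) (fun l l' => b''.repr (J (b l)) l')
      (fun l => by
        refine Eq.trans ?_ (apply_basis (p'' := quotFactor hK p hKJ) (q := quotMk C' K hK) S'' b'' hb'' (J (b l)))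
        rw [quotMk_apply, ← hb l]
        rfl) hw hw''
    rw [hobs _ hq u G'' b'' hb'' w'' hw'', hobs p hp u G b hb w hw, map_sum]
    simp only [e, TensorProduct.sum_tmul, TensorProduct.smul_tmul]
    rw [Finset.sum_comm]
    refine Finset.sum_congr rfl fun l _ => ?_
    rw [LinearMap.lTensor_tmul, ← TensorProduct.tmul_sum, b''.sum_repr]

end Groth.L14.LocHilbLift
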